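import Cfsg.Agent.Lib.AbelianFixed.Sylow
import Cfsg.Agent.Lib.Transfer.CenterInf
import Cfsg.Agent.Lib.Transfer.Fusion

/-!
The case of an abelian invariant Sylow `p`-subgroup: its normalizer is the greatest proper
invariant subgroup containing it and contains all `p`-local invariant normalizers.
-/

set_option autoImplicit false
set_option linter.unusedSectionVars false

namespace Cfsg.Agent.AbelianFixed

open Subgroup
open scoped Pointwise commutatorElement

universe u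

variable {Γ : Type u} [Group Γ]

theorem commute_of_disjoint {H K : Subgroup Γ} (hd : H ⊓ K = ⊥) {x y : Γ} (hx : x ∈ H)
    (hy : y ∈ K) (h1 : x ∈ normalizer (K : Set Γ)) (h2 : y ∈ normalizer (H : Set Γ)) :
    x * y = y * x := by
  have hm : ⁅x, y⁆ ∈ H ⊓ K := by
    constructor
    · rw [commutatorElement_def, mul_assoc, mul_assoc]
      refine H.mul_mem hx ?_
      simpa [mul_assoc] using conj_mem_of_mem_normalizer h2 (H.inv_mem hx)
    · exact K.mul_mem (conj_mem_of_mem_normalizer h1 hy) (K.inv_mem hy)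
  rw [hd, mem_bot, commutatorElement_eq_one_iff_mul_comm] at hm
  exact hm

/-- `g` normalises `⁅W, H⁆` if it normalises `W` and moves elements of `H` only by elements
centralising `W`. -/
theorem mem_normalizer_commutator [Finite Γ] {W H : Subgroup Γ} {g : Γ}
    (hgW : g ∈ normalizer (W : Set Γ)) (hHW : H ≤ normalizer (W : Set Γ))
    (hc : ∀ h ∈ H, ⁅g, h⁆ ∈ centralizer (W : Set Γ)) :
    g ∈ normalizer ((⁅W, H⁆ : Subgroup Γ) : Set Γ) := by
  rw [← Coprime.conj_smul_eq_self_iff]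
  refine eq_of_le_of_card_ge ?_ (Coprime.card_conj_smul _ _).ge
  rw [Coprime.conj_smul_commutator, Coprime.conj_smul_eq_self_iff.mpr hgW, Subgroup.commutator_le]
  intro v hv x hx
  rw [Coprime.mem_conj_smul] at hx
  have hz := hc _ hx
  have hW : ⁅v, g⁻¹ * x * g⁆ ∈ ⁅W, H⁆ := commutator_mem_commutator hv hx
  have e : x = ⁅g, g⁻¹ * x * g⁆ * (g⁻¹ * x * g) := by rw [commutatorElement_def]; group
  generalize g⁻¹ * x * g = y at e hz hW
  generalize ⁅g, y⁆ = z at e hz
  subst e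
  have e2 : ⁅v, z * y⁆ = z * ⁅v, y⁆ * z⁻¹ := by
    calc ⁅v, z * y⁆ = v * z * y * v⁻¹ * y⁻¹ * z⁻¹ := by rw [commutatorElement_def]; group
      _ = z * v * y * v⁻¹ * y⁻¹ * z⁻¹ := by rw [mem_centralizer_iff.mp hz v hv]
      _ = z * ⁅v, y⁆ * z⁻¹ := by rw [commutatorElement_def]; group
  rwa [e2, ← mem_centralizer_iff.mp hz _ (Coprime.commutator_le_of_le_normalizer hHW hW),
    mul_inv_cancel_right]

namespace Core

variable (S : Core Γ)

/-- `M` is the greatest proper invariant subgroup containing `P p` and contains the normalizers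
of the nontrivial invariant subgroups of `P p`. -/
structure Max (p : ℕ) (M : Subgroup Γ) : Prop where
  inv : S.Inv M
  ne : M ≠ S.G
  le : S.P p ≤ M
  top : ∀ K, S.Inv K → K ≠ S.G → S.P p ≤ K → K ≤ M
  norm : ∀ X, S.Inv X → X ≠ ⊥ → X ≤ S.P p → S.Nz X ≤ M
  not_le_U : ∀ a ∈ S.A, a ≠ 1 → ¬ S.P p ≤ S.U a

variable [Finite Γ] {p : ℕ} [Fact p.Prime]

/-- If `P` is in no single `U a` then some line outside a given one meets it. -/
theorem exists_line (h : ∀ a ∈ S.A, a ≠ 1 → ¬ S.P p ≤ S.U a) {a : Γ} (ha : a ∈ S.A)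
    (ha1 : a ≠ 1) : ∃ c ∈ S.A, c ∉ zpowers a ∧ S.P p ⊓ S.U c ≠ ⊥ := by
  by_contra hcon
  push Not at hcon
  exact h a ha ha1 (S.gen_line (S.inv_P p) ha
    (fun c hc hca => (hcon c hc hca).le.trans bot_le) inf_le_right)

section Abelian

variable (hab : ∀ x ∈ S.P p, ∀ y ∈ S.P p, x * y = y * x)

include hab

theorem P_le_centralizer {X : Subgroup Γ} (hX : X ≤ S.P p) :
    S.P p ≤ centralizer (X : Set Γ) :=
  fun x hx => mem_centralizer_iff.mpr fun y hy => hab y (hX hy) x hx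

theorem P_le_Nz_P : S.P p ≤ S.Nz (S.P p) := S.le_Nz (S.inv_P p).le le_normalizer

/-- The focal subgroup theorem and Burnside's fusion lemma. -/
theorem P_le_commutator : S.P p ≤ ⁅S.P p, S.Nz (S.P p)⁆ := by
  obtain ⟨Q, hQ⟩ := S.exists_sylow_G (p := p)
  have hmemQ : ∀ x : S.G, x ∈ Q → (x : Γ) ∈ S.P p := fun x hx => hQ ▸ ⟨x, hx, rfl⟩
  have key := Transfer.Fusion.focal_le_of_fusion Q
    (F := (⁅S.P p, S.Nz (S.P p)⁆).subgroupOf S.G) (by
      intro x hx g hg
      have hfix : ∀ z : S.G, z ∈ Q → ∀ w ∈ Q,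
          (fun y => w * y * w⁻¹) '' ({z} : Set S.G) = {z} := by
        intro z hz w hw
        rw [Set.image_singleton]
        congr 1
        apply Subtype.ext
        show (w : Γ) * z * (w : Γ)⁻¹ = z
        rw [hab w (hmemQ w hw) z (hmemQ z hz), mul_inv_cancel_right]
      obtain ⟨n, hn, hne⟩ := Transfer.Fusion.burnside_fusion_set Q (X := {x})
        (Y := {g * x * g⁻¹}) (hfix x hx) (hfix _ hg) (g := g) (Set.image_singleton)
      rw [Set.image_singleton, Set.singleton_eq_singleton_iff] at hne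
      refine ⟨n, hne, mem_subgroupOf.mpr ?_⟩
      have hnN : (n : Γ) ∈ S.Nz (S.P p) := by
        refine ⟨n.2, mem_normalizer_of_conj_mem fun y hy => ?_⟩
        rw [← hQ] at hy ⊢
        obtain ⟨y', hy', rfl⟩ := hy
        exact ⟨n * y' * n⁻¹, conj_mem_of_mem_normalizer hn hy', rfl⟩
      exact commutator_mem_commutator (hmemQ x hx) hnN)
  have htop : _root_.commutator S.G = ⊤ := by
    apply map_injective S.G.subtype_injective
    rw [map_subtype_commutator, S.perfect, ← MonoidHom.range_eq_map, range_subtype]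
  intro x hx
  rw [← hQ] at hx
  obtain ⟨y, hy, rfl⟩ := hx
  exact key ⟨by rw [htop]; exact mem_top y, hy⟩

theorem P_le_der : S.P p ≤ ⁅S.Nz (S.P p), S.Nz (S.P p)⁆ :=
  (S.P_le_commutator hab).trans (commutator_mono (S.P_le_Nz_P hab) le_rfl)

theorem Nz_P_ne (hP : S.P p ≠ ⊥) : S.Nz (S.P p) ≠ S.G :=
  S.Nz_ne (S.inv_P p) hP (S.P_ne_G p)

theorem inf_centralizer_Nz : S.P p ⊓ centralizer (S.Nz (S.P p) : Set Γ) = ⊥ := by
  set N := S.Nz (S.P p)
  obtain ⟨Q, hQ⟩ := S.exists_sylow (p := p) (S.inv_Nz (S.inv_P p))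
  rw [inf_eq_left.mpr (S.P_le_Nz_P hab)] at hQ
  have : IsMulCommutative (Q : Subgroup N) := ⟨⟨fun a b => Subtype.ext (Subtype.ext
    (hab _ (hQ.le ⟨a.1, a.2, rfl⟩) _ (hQ.le ⟨b.1, b.2, rfl⟩)))⟩⟩
  have key := Transfer.CenterInf.inf_commutator_inf_center (Q : Subgroup N) Q.card_coprime_index
  refine le_bot_iff.mp fun x hx => ?_
  have hxder := S.P_le_der hab hx.1
  rw [← map_subtype_commutator] at hxder
  obtain ⟨y, hy, rfl⟩ := hxder
  have hyQ : y ∈ (Q : Subgroup N) := by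
    obtain ⟨y', hy', he⟩ := hQ.ge hx.1
    rwa [← N.subtype_injective he]
  have hm : y ∈ (Q : Subgroup N) ⊓ _root_.commutator N ⊓ center N :=
    ⟨⟨hyQ, hy⟩, mem_center_iff.mpr fun z => Subtype.ext (mem_centralizer_iff.mp hx.2 z z.2)⟩
  rw [key, mem_bot] at hm
  rw [mem_bot, hm]
  rfl

theorem der_Nz_le (hP : S.P p ≠ ⊥) :
    ⁅S.Nz (S.P p), S.Nz (S.P p)⁆ ≤ centralizer (S.P p : Set Γ) := by
  refine S.le_of_parts (S.inv_der (S.inv_Nz (S.inv_P p))) fun s hs => ?_
  have := Fact.mk hs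
  by_cases h : s = p
  · subst h
    exact inf_le_left.trans (S.P_le_centralizer hab le_rfl)
  · have h' := S.part_le_centralizer (s := s) (r := p) h (S.inv_Nz (S.inv_P p))
      (S.Nz_P_ne hab hP)
    rwa [inf_eq_left.mpr (S.P_le_der hab)] at h'

/-- `P` is no subgroup of a single `U a`. -/
theorem not_le_U_of_abelian (hP : S.P p ≠ ⊥) {a : Γ} (ha : a ∈ S.A) (ha1 : a ≠ 1) :
    ¬ S.P p ≤ S.U a := by
  intro h
  have hc : S.Nz (S.P p) ≤ centralizer (S.P p : Set Γ) := by
    refine S.gen_line (S.inv_Nz (S.inv_P p)) ha (fun d hd hda => ?_) ?_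
    · exact S.le_centralizer_fixed h
        (((S.inv_Nz (S.inv_P p)).inf_U hd).norm ha) (inf_le_left.trans inf_le_right)
        ((S.inv_Nz (S.inv_P p)).inf_U hd).le (S.inf_U_bot' ha ha1 hd hda inf_le_right)
    · exact inf_le_right.trans ((S.U_le_centralizer ha ha1).trans (centralizer_le h))
  refine hP (le_bot_iff.mp ((S.P_le_commutator hab).trans (le_of_eq ?_)))
  exact Coprime.commutator_eq_bot_iff_le_centralizer'.mpr hc

/-- Normalizers of `N(P)`-invariant subgroups of `P` lie in `N(P)`. -/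
theorem Nz_le_of_invariant {X : Subgroup Γ} (hX : S.Inv X) (hX0 : X ≠ ⊥) (hXP : X ≤ S.P p)
    (hn : S.Nz (S.P p) ≤ normalizer (X : Set Γ)) : S.Nz X ≤ S.Nz (S.P p) := by
  have hne := S.Nz_ne hX hX0 (S.ne_G_of_le_P hXP)
  have hle : S.Nz (S.P p) ≤ S.Nz X := le_inf inf_le_left hn
  have h := S.le_normalizer_part (p := p) (S.inv_Nz hX) hne
  rw [inf_eq_left.mpr ((S.P_le_der hab).trans (commutator_mono hle hle))] at h
  exact le_inf inf_le_left h

/-- A proper invariant subgroup containing `P` whose `p'`-parts of the derived group commute with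
`P` lies in `N(P)`. -/
theorem le_Nz_of_parts {K : Subgroup Γ} (hK : S.Inv K) (hPK : S.P p ≤ K)
    (h : ∀ s : ℕ, s.Prime → s ≠ p → S.P p ≤ centralizer ((S.P s ⊓ ⁅K, K⁆ : Subgroup Γ) : Set Γ)) :
    K ≤ S.Nz (S.P p) := by
  refine S.le_of_normalizer_of_parts (p := p) hK ?_ fun s hs hsp => ?_
  · rw [inf_eq_left.mpr hPK]
    exact inf_le_inf_right _ hK.le
  · refine S.le_Nz (inf_le_right.trans ((der_le K).trans hK.le)) ?_
    exact (le_centralizer_iff.mp (h s hs hsp)).trans (centralizer_le_normalizer _)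

/-- If the `L`-fixed points of an `s`-part lie in `N(P)` then the elements of `P` in another
line centralise it. -/
theorem P_inf_U_le_centralizer {K : Subgroup Γ} (hK : S.Inv K) (hne : K ≠ S.G)
    (hPK : S.P p ≤ K) {s : ℕ} [Fact s.Prime] (hsp : s ≠ p) {b L : Γ} (hb : b ∈ S.A) (hb1 : b ≠ 1)
    (hL : L ∈ S.A) (hLb : L ∉ zpowers b)
    (hYL : S.P s ⊓ ⁅K, K⁆ ⊓ S.U L ≤ S.Nz (S.P p)) :
    S.P p ⊓ S.U b ≤ centralizer ((S.P s ⊓ ⁅K, K⁆ : Subgroup Γ) : Set Γ) := by
  have hY : S.Inv (S.P s ⊓ ⁅K, K⁆) := (S.inv_P s).inf (S.inv_der hK).norm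
  refine S.le_centralizer hL hY (S.isSolvable_of_le_P inf_le_left) ((S.inv_P p).inf_U hb)
    ((inf_le_left.trans hPK).trans (S.le_normalizer_part hK hne))
    (S.coprime_of_ne hsp inf_le_left inf_le_left) (S.inf_U_bot hb hb1 hL hLb inf_le_right) ?_
  intro y hy
  refine mem_centralizer_iff.mpr fun x hx => (commute_of_disjoint (H := S.P s ⊓ ⁅K, K⁆)
    (K := S.P p) (S.inf_eq_bot hsp inf_le_left le_rfl) hy.1 hx.1 (hYL hy).2
    (S.le_normalizer_part hK hne (hPK hx.1))).symm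

/-- The centraliser of `a` lies in `N(P)` if `a` fixes a nontrivial element of `P`. -/
theorem U_le_Nz_P {a : Γ} (ha : a ∈ S.A) (ha1 : a ≠ 1) (hPa : S.P p ⊓ S.U a ≠ ⊥) :
    S.U a ≤ S.Nz (S.P p) := by
  have hP : S.P p ≠ ⊥ := fun h => hPa (by rw [h, bot_inf_eq])
  have hX0 : S.Inv (S.P p ⊓ S.U a) := (S.inv_P p).inf_U ha
  let K := S.Cz (S.P p ⊓ S.U a)
  have hK : S.Inv K := S.inv_Cz hX0
  have hne : K ≠ S.G := S.Cz_ne hX0 hPa (S.ne_G_of_le_P inf_le_left)
  have hPK : S.P p ≤ K := S.le_Cz (S.inv_P p).le (S.P_le_centralizer hab inf_le_left)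
  have hUK : S.U a ≤ K :=
    S.le_Cz (S.U_le a) ((S.U_le_centralizer ha ha1).trans (centralizer_le inf_le_right))
  refine hUK.trans (S.le_Nz_of_parts hab hK hPK fun s hs hsp => S.gen (S.inv_P p) fun b hb hb1 => ?_)
  have := Fact.mk hs
  -- a `p'`-part of `N(P) ⊓ U L` that moves `P ⊓ U b`
  by_cases hPb : S.P p ⊓ S.U b = ⊥
  · rw [hPb]; exact bot_le
  obtain ⟨L, hL, hL1, r, hr, hrp, hH⟩ : ∃ L ∈ S.A, L ≠ 1 ∧ ∃ r : ℕ, r.Prime ∧ r ≠ p ∧
      ¬ S.P r ⊓ (S.Nz (S.P p) ⊓ S.U L) ≤ centralizer ((S.P p ⊓ S.U b : Subgroup Γ) : Set Γ) := by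
    by_contra hcon
    push Not at hcon
    refine hPb (le_bot_iff.mp ((S.inf_centralizer_Nz hab) ▸ le_inf inf_le_left ?_))
    rw [le_centralizer_iff]
    refine S.gen (S.inv_Nz (S.inv_P p)) fun L hL hL1 => ?_
    refine S.le_of_parts ((S.inv_Nz (S.inv_P p)).inf_U hL) fun r hr => ?_
    by_cases hrp : r = p
    · subst hrp
      exact inf_le_left.trans (S.P_le_centralizer hab inf_le_left)
    · exact hcon L hL hL1 r hr hrp
  have := Fact.mk hr
  set H := S.P r ⊓ (S.Nz (S.P p) ⊓ S.U L)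
  have hHi : S.Inv H := (S.inv_P r).inf ((S.inv_Nz (S.inv_P p)).inf_U hL).norm
  have hHU : H ≤ S.U L := inf_le_right.trans inf_le_right
  have hHN : H ≤ S.Nz (S.P p) := inf_le_right.trans inf_le_left
  have hHP : H ≤ normalizer (S.P p : Set Γ) := hHN.trans inf_le_right
  have hLb : L ∉ zpowers b := fun h => hH (by
    rw [S.U_eq_of_mem hb hL1 h] at hHU
    exact hHU.trans ((S.U_le_centralizer hb hb1).trans (centralizer_le inf_le_right)))
  let Y := S.P s ⊓ ⁅K, K⁆
  have hY : S.Inv Y := (S.inv_P s).inf (S.inv_der hK).norm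
  have hYi : S.Inv (Y ⊓ S.U L) := hY.inf_U hL
  let E := S.P p ⊓ centralizer ((Y ⊓ S.U L : Subgroup Γ) : Set Γ)
  have hXE : ⁅S.P p, H⁆ ≤ E := by
    by_cases hLa : L ∈ zpowers a
    · have hHK : H ≤ K := by rw [S.U_eq_of_mem ha hL1 hLa] at hHU; exact hHU.trans hUK
      refine le_inf (Coprime.commutator_le_of_le_normalizer hHP) ?_
      refine le_trans ?_ ((S.part_le_centralizer (s := p) (r := s) (Ne.symm hsp) hK hne).trans
        (centralizer_le inf_le_left))
      exact le_inf (Coprime.commutator_le_of_le_normalizer hHP) (commutator_mono hPK hHK)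
    · refine S.commutator_le (W := S.P p) (H := H) (E := E) ha (S.inv_P p).le hHi.le
        ((S.inv_P p).norm ha) (hHi.norm ha) hHP (S.coprime_of_ne hrp.symm le_rfl inf_le_left)
        inf_le_left ?_ ?_ ?_ (S.inf_U_bot' ha ha1 hL hLa hHU) ?_
      · exact fun x hx => mem_normalizer_of_conj_mem fun y hy => by
          rwa [hab x hx y hy.1, mul_inv_cancel_right]
      · refine le_normalizer_inf hHP ?_
        refine le_trans ?_ ((centralizer_le_normalizer _).trans
          (normalizer_le_normalizer_centralizer _))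
        exact hHU.trans ((S.U_le_centralizer hL hL1).trans (centralizer_le inf_le_right))
      · exact inf_normalizer_le_normalizer_inf
          ⟨(S.inv_P p).norm ha, normalizer_le_normalizer_centralizer _ (hYi.norm ha)⟩
      · refine le_inf inf_le_left (le_centralizer_iff.mp ?_)
        exact inf_le_left.trans (inf_le_right.trans ((der_le K).trans inf_le_right))
  have hX : S.Inv ⁅S.P p, H⁆ := (S.inv_P p).commutator hHi
  have hX0 : ⁅S.P p, H⁆ ≠ ⊥ := fun h => hH
    ((Coprime.commutator_eq_bot_iff_le_centralizer'.mp h).trans (centralizer_le inf_le_left))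
  have hXN : S.Nz (S.P p) ≤ normalizer ((⁅S.P p, H⁆ : Subgroup Γ) : Set Γ) := fun n hn =>
    mem_normalizer_commutator hn.2 hHP fun h hh =>
      S.der_Nz_le hab hP (commutator_mem_commutator hn (hHN hh))
  refine S.P_inf_U_le_centralizer hab hK hne hPK hsp hb hb1 hL hLb ?_
  refine le_trans ?_ (S.Nz_le_of_invariant hab hX hX0
    (Coprime.commutator_le_of_le_normalizer hHP) hXN)
  refine S.le_Nz hYi.le ((le_centralizer_iff.mp (hXE.trans inf_le_right)).trans
    (centralizer_le_normalizer _))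

/-- The conclusion for abelian `P`. -/
theorem max_of_abelian (hP : S.P p ≠ ⊥) : S.Max p (S.Nz (S.P p)) := by
  have hnle : ∀ a ∈ S.A, a ≠ 1 → ¬ S.P p ≤ S.U a := fun a ha ha1 =>
    S.not_le_U_of_abelian hab hP ha ha1
  have htop : ∀ K, S.Inv K → K ≠ S.G → S.P p ≤ K → K ≤ S.Nz (S.P p) := by
    intro K hK hne hPK
    refine S.le_Nz_of_parts hab hK hPK fun s hs hsp => S.gen (S.inv_P p) fun b hb hb1 => ?_
    have := Fact.mk hs
    obtain ⟨L, hL, hLb, hPL⟩ := S.exists_line hnle hb hb1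
    exact S.P_inf_U_le_centralizer hab hK hne hPK hsp hb hb1 hL hLb
      (inf_le_right.trans (S.U_le_Nz_P hab hL (Ctx.ne_one_of_not_mem hLb) hPL))
  refine ⟨S.inv_Nz (S.inv_P p), S.Nz_P_ne hab hP, S.P_le_Nz_P hab, htop, ?_, hnle⟩
  intro X hX hX0 hXP g hg
  have hC : S.Cz X ≤ S.Nz (S.P p) := htop _ (S.inv_Cz hX)
    (S.Cz_ne hX hX0 (S.ne_G_of_le_P hXP))
    (S.le_Cz (S.inv_P p).le (S.P_le_centralizer hab hXP))
  refine ⟨hg.1, mem_normalizer_of_conj_mem fun x hx => ?_⟩
  have hsub : MulAut.conj g • S.P p ≤ S.Nz (S.P p) := by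
    refine le_trans ?_ hC
    intro z hz
    rw [Coprime.mem_conj_smul] at hz
    have hm : g⁻¹ * z * g ∈ S.Cz X :=
      ⟨(S.inv_P p).le hz, S.P_le_centralizer hab hXP hz⟩
    have hgC : g ∈ normalizer (S.Cz X : Set Γ) :=
      inf_normalizer_le_normalizer_inf
        ⟨le_normalizer hg.1, normalizer_le_normalizer_centralizer X hg.2⟩
    simpa [mul_assoc] using conj_mem_of_mem_normalizer hgC hm
  refine S.le_P_of_le_normalizer (hsub.trans inf_le_left) ?_ (hsub.trans inf_le_right)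
    (Coprime.conj_mem_conj_smul hx)
  rw [Coprime.conj_smul_eq_map]
  exact (S.isPGroup_P p).map _

end Abelian

end Core

end Cfsg.Agent.AbelianFixed
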