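import Cfsg.Agent.Lib.Coprime.Generation
import Cfsg.Agent.Lib.Coprime.Sylow
import Cfsg.Agent.Lib.Coprime.Commutator
import Cfsg.Agent.Solvable.Thompson
import Cfsg.Agent.S3939

/-!
A noncyclic group `A` of order `q²` normalises a `q'`-group `G` and the centraliser in `G` of every
nontrivial element of `A` is abelian. Basic tools: lifting of fixed points, generation, and two
criteria for an invariant subgroup to centralise another one.
-/

set_option autoImplicit false

namespace Cfsg.Agent.AbelianFixed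

open Subgroup
open scoped Pointwise commutatorElement

universe u

variable {Γ : Type u} [Group Γ]

/-! ### Normalizers -/

theorem conj_mem_of_mem_normalizer {H : Subgroup Γ} {g h : Γ}
    (hg : g ∈ normalizer (H : Set Γ)) (hh : h ∈ H) : g * h * g⁻¹ ∈ H :=
  (mem_normalizer_iff.mp hg h).mp hh

theorem mem_normalizer_of_conj_mem [Finite Γ] {H : Subgroup Γ} {g : Γ}
    (h : ∀ x ∈ H, g * x * g⁻¹ ∈ H) : g ∈ normalizer (H : Set Γ) := by
  rw [← Coprime.conj_smul_eq_self_iff]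
  refine eq_of_le_of_card_ge (fun x hx => ?_) (Coprime.card_conj_smul g H).ge
  rw [Coprime.mem_conj_smul] at hx
  simpa [mul_assoc] using h _ hx

theorem normalizer_le_normalizer_centralizer (H : Subgroup Γ) :
    normalizer (H : Set Γ) ≤ normalizer ((centralizer (H : Set Γ) : Subgroup Γ) : Set Γ) := by
  rw [le_normalizer_iff]
  intro g hg c hc
  rw [mem_centralizer_iff]
  intro x hx
  have h1 : g⁻¹ * x * g ∈ H := (mem_normalizer_iff''.mp hg x).mp hx
  calc x * (g * c * g⁻¹) = g * ((g⁻¹ * x * g) * c) * g⁻¹ := by group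
    _ = g * (c * (g⁻¹ * x * g)) * g⁻¹ := by rw [mem_centralizer_iff.mp hc _ h1]
    _ = g * c * g⁻¹ * x := by group

theorem normalizer_commutator {H K : Subgroup Γ} :
    normalizer (H : Set Γ) ⊓ normalizer (K : Set Γ) ≤ normalizer ((⁅H, K⁆ : Subgroup Γ) : Set Γ) := by
  intro g hg
  rw [← Coprime.conj_smul_eq_self_iff, Coprime.conj_smul_commutator,
    Coprime.conj_smul_eq_self_iff.mpr hg.1, Coprime.conj_smul_eq_self_iff.mpr hg.2]

theorem le_normalizer_inf {L H K : Subgroup Γ} (h1 : L ≤ normalizer (H : Set Γ))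
    (h2 : L ≤ normalizer (K : Set Γ)) : L ≤ normalizer ((H ⊓ K : Subgroup Γ) : Set Γ) :=
  le_trans (le_inf h1 h2) inf_normalizer_le_normalizer_inf

theorem le_normalizer_sup {L H K : Subgroup Γ} (h1 : L ≤ normalizer (H : Set Γ))
    (h2 : L ≤ normalizer (K : Set Γ)) : L ≤ normalizer ((H ⊔ K : Subgroup Γ) : Set Γ) :=
  le_trans (le_inf h1 h2) (normalizer_inf_normalizer_le_normalizer_sup H K)

/-- A conjugation that moves every element of `H` to another element of the same coset of `H`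
of a fixed point free kind is onto: if `b` normalises `H` and fixes only `1` in `H` then every
element of `H` has the form `h⁻¹ * (b * h * b⁻¹)`. -/
theorem exists_disp_eq [Finite Γ] {H : Subgroup Γ} {b : Γ} (hb : b ∈ normalizer (H : Set Γ))
    (hfix : H ⊓ centralizer {b} = ⊥) {y : Γ} (hy : y ∈ H) :
    ∃ h ∈ H, h⁻¹ * (b * h * b⁻¹) = y := by
  let f : H → H := fun h =>
    ⟨(h : Γ)⁻¹ * (b * h * b⁻¹), mul_mem (inv_mem h.2) (conj_mem_of_mem_normalizer hb h.2)⟩
  have hinj : Function.Injective f := by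
    intro h₁ h₂ he
    have he' : (h₁ : Γ)⁻¹ * (b * h₁ * b⁻¹) = (h₂ : Γ)⁻¹ * (b * h₂ * b⁻¹) :=
      congrArg Subtype.val he
    have hm : (h₂ : Γ) * (h₁ : Γ)⁻¹ ∈ H ⊓ centralizer ({b} : Set Γ) := by
      refine ⟨H.mul_mem h₂.2 (H.inv_mem h₁.2), mem_centralizer_singleton_iff.mpr ?_⟩
      calc (h₂ : Γ) * (h₁ : Γ)⁻¹ * b
          = (h₂ : Γ) * ((h₁ : Γ)⁻¹ * (b * h₁ * b⁻¹)) * b * (h₁ : Γ)⁻¹ := by group
        _ = (h₂ : Γ) * ((h₂ : Γ)⁻¹ * (b * h₂ * b⁻¹)) * b * (h₁ : Γ)⁻¹ := by rw [he']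
        _ = b * ((h₂ : Γ) * (h₁ : Γ)⁻¹) := by group
    rw [hfix, Subgroup.mem_bot, mul_inv_eq_one] at hm
    exact Subtype.ext hm.symm
  obtain ⟨h, hh⟩ := (Finite.injective_iff_surjective.mp hinj) ⟨y, hy⟩
  exact ⟨h, h.2, congrArg Subtype.val hh⟩

/-! ### The setting -/

/-- The data: `A` noncyclic of order `q²` normalises the `q'`-group `G`, and the centraliser in
`G` of every nontrivial element of `A` is abelian. -/
structure Ctx (Γ : Type u) [Group Γ] where
  G : Subgroup Γ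
  A : Subgroup Γ
  q : ℕ
  hq : q.Prime
  cardA : Nat.card A = q ^ 2
  ncyc : ¬ IsCyclic A
  hAG : A ≤ normalizer (G : Set Γ)
  hcop : ¬ q ∣ Nat.card G
  hab : ∀ a ∈ A, a ≠ 1 →
    G ⊓ centralizer {a} ≤ centralizer ((G ⊓ centralizer {a} : Subgroup Γ) : Set Γ)

namespace Ctx

variable (S : Ctx Γ)

/-- The centraliser in `G` of an element. -/
def U (a : Γ) : Subgroup Γ := S.G ⊓ centralizer {a}

/-- Subgroups of `G` normalised by `A`. -/
structure Inv (H : Subgroup Γ) : Prop where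
  le : H ≤ S.G
  norm : S.A ≤ normalizer (H : Set Γ)

theorem U_le (a : Γ) : S.U a ≤ S.G := inf_le_left

theorem mem_U {a x : Γ} : x ∈ S.U a ↔ x ∈ S.G ∧ x * a = a * x := by
  rw [U, mem_inf, mem_centralizer_singleton_iff]

theorem U_comm {a x y : Γ} (ha : a ∈ S.A) (ha1 : a ≠ 1) (hx : x ∈ S.U a) (hy : y ∈ S.U a) :
    x * y = y * x :=
  mem_centralizer_iff.mp (S.hab a ha ha1 hy) x hx

theorem U_le_centralizer {a : Γ} (ha : a ∈ S.A) (ha1 : a ≠ 1) :
    S.U a ≤ centralizer (S.U a : Set Γ) := S.hab a ha ha1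

theorem comm {a b : Γ} (ha : a ∈ S.A) (hb : b ∈ S.A) : a * b = b * a := by
  have := Fact.mk S.hq
  have h := IsPGroup.isMulCommutative_of_card_eq_prime_sq (G := S.A) S.cardA
  exact congrArg Subtype.val (h.is_comm.comm ⟨a, ha⟩ ⟨b, hb⟩)

theorem isMulCommutative : IsMulCommutative S.A :=
  ⟨⟨fun a b => Subtype.ext (S.comm a.2 b.2)⟩⟩

theorem isSolvable_A : Group.IsSolvable S.A :=
  have := S.isMulCommutative
  Coprime.isSolvable_of_isMulCommutative S.A

theorem pow_q {a : Γ} (ha : a ∈ S.A) : a ^ S.q = 1 := by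
  have hd : orderOf (⟨a, ha⟩ : S.A) ∣ S.q ^ 2 := S.cardA ▸ orderOf_dvd_natCard _
  obtain ⟨i, hi, he⟩ := (Nat.dvd_prime_pow S.hq).mp hd
  rw [Subgroup.orderOf_mk] at he
  rw [← orderOf_dvd_iff_pow_eq_one, he]
  rcases i with _ | _ | _ | n
  · simp
  · simp
  · have : Finite S.A := Nat.finite_of_card_ne_zero (by rw [S.cardA]; exact pow_ne_zero 2 S.hq.ne_zero)
    exact absurd (isCyclic_of_orderOf_eq_card (⟨a, ha⟩ : S.A)
      (by rw [Subgroup.orderOf_mk, he, S.cardA])) S.ncyc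
  · omega

theorem orderOf_eq {a : Γ} (ha : a ∈ S.A) (ha1 : a ≠ 1) : orderOf a = S.q :=
  have := Fact.mk S.hq
  orderOf_eq_prime (S.pow_q ha) ha1

theorem card_zpowers {a : Γ} (ha : a ∈ S.A) (ha1 : a ≠ 1) :
    Nat.card (zpowers a) = S.q := by rw [Nat.card_zpowers, S.orderOf_eq ha ha1]

theorem mem_zpowers_symm {a c : Γ} (ha : a ∈ S.A) (hc1 : c ≠ 1) (hc : c ∈ zpowers a) :
    a ∈ zpowers c := by
  have hcA : c ∈ S.A := zpowers_le.mpr ha hc
  by_cases ha1 : a = 1
  · subst ha1; exact one_mem _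
  have hfin : Finite (zpowers a) := by
    apply Nat.finite_of_card_ne_zero
    rw [S.card_zpowers ha ha1]; exact S.hq.ne_zero
  have he : zpowers c = zpowers a := eq_of_le_of_card_ge (zpowers_le.mpr hc)
    (by rw [S.card_zpowers ha ha1, S.card_zpowers hcA hc1])
  rw [he]; exact mem_zpowers a

theorem ne_one_of_not_mem {a c : Γ} (hc : c ∉ zpowers a) : c ≠ 1 :=
  fun h => hc (h ▸ one_mem _)

theorem not_mem_symm {a c : Γ} (hcA : c ∈ S.A) (ha1 : a ≠ 1) (hc : c ∉ zpowers a) :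
    a ∉ zpowers c :=
  fun h => hc (S.mem_zpowers_symm hcA ha1 h)

theorem U_eq_of_mem {a c : Γ} (ha : a ∈ S.A) (hc1 : c ≠ 1) (hc : c ∈ zpowers a) :
    S.U c = S.U a := by
  have key : ∀ {x y : Γ}, y ∈ zpowers x → S.U x ≤ S.U y := by
    intro x y hy g hg
    obtain ⟨k, rfl⟩ := hy
    rw [mem_U] at hg ⊢
    exact ⟨hg.1, ((show Commute g x from hg.2).zpow_right k).eq⟩
  exact le_antisymm (key (S.mem_zpowers_symm ha hc1 hc)) (key hc)

theorem exists_not_mem (b : Γ) (hb : b ∈ S.A) : ∃ c ∈ S.A, c ∉ zpowers b := by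
  by_contra h
  push Not at h
  refine S.ncyc ⟨⟨⟨b, hb⟩, fun x => ?_⟩⟩
  obtain ⟨k, hk⟩ := h x.1 x.2
  exact ⟨k, Subtype.ext (by simpa using hk)⟩

theorem sup_zpowers [Finite Γ] {a c : Γ} (ha : a ∈ S.A) (ha1 : a ≠ 1) (hc : c ∈ S.A)
    (hca : c ∉ zpowers a) : zpowers a ⊔ zpowers c = S.A := by
  have hle : zpowers a ⊔ zpowers c ≤ S.A := sup_le (zpowers_le.mpr ha) (zpowers_le.mpr hc)
  refine eq_of_le_of_card_ge hle ?_
  rw [S.cardA]
  have h1 : Nat.card ↥(zpowers a ⊔ zpowers c) ∣ S.q ^ 2 := S.cardA ▸ card_dvd_of_le hle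
  obtain ⟨i, hi, he⟩ := (Nat.dvd_prime_pow S.hq).mp h1
  rw [he]
  refine Nat.pow_le_pow_right S.hq.pos ?_
  by_contra hlt
  have hi1 : S.q ^ i ≤ S.q := by
    calc S.q ^ i ≤ S.q ^ 1 := Nat.pow_le_pow_right S.hq.pos (by omega)
      _ = S.q := pow_one _
  have heq : zpowers a = zpowers a ⊔ zpowers c := eq_of_le_of_card_ge le_sup_left
    (by rw [he, S.card_zpowers ha ha1]; exact hi1)
  exact hca (heq ▸ mem_sup_right (mem_zpowers c))

theorem U_inf_U [Finite Γ] {a c : Γ} (ha : a ∈ S.A) (ha1 : a ≠ 1) (hc : c ∈ S.A)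
    (hca : c ∉ zpowers a) : S.U a ⊓ S.U c ≤ S.G ⊓ centralizer (S.A : Set Γ) := by
  rintro x ⟨h1, h2⟩
  refine ⟨h1.1, ?_⟩
  have hs : zpowers a ⊔ zpowers c ≤ centralizer ({x} : Set Γ) := by
    refine sup_le (zpowers_le.mpr ?_) (zpowers_le.mpr ?_) <;> rw [mem_centralizer_singleton_iff]
    · exact (S.mem_U.mp h1).2.symm
    · exact (S.mem_U.mp h2).2.symm
  rw [S.sup_zpowers ha ha1 hc hca] at hs
  exact mem_centralizer_iff.mpr fun b hb => mem_centralizer_singleton_iff.mp (hs hb)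

theorem U_inf_U_eq_bot [Finite Γ] (hA1 : S.G ⊓ centralizer (S.A : Set Γ) = ⊥) {a c : Γ}
    (ha : a ∈ S.A) (ha1 : a ≠ 1) (hc : c ∈ S.A) (hca : c ∉ zpowers a) :
    S.U a ⊓ S.U c = ⊥ :=
  le_bot_iff.mp (hA1 ▸ S.U_inf_U ha ha1 hc hca)

theorem not_q_dvd {H : Subgroup Γ} (h : H ≤ S.G) : ¬ S.q ∣ Nat.card H :=
  fun hd => S.hcop (hd.trans (card_dvd_of_le h))

theorem coprime_A {H : Subgroup Γ} (h : H ≤ S.G) : (Nat.card S.A).Coprime (Nat.card H) := by
  rw [S.cardA]
  exact Nat.Coprime.pow_left 2 (S.hq.coprime_iff_not_dvd.mpr (S.not_q_dvd h))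

/-- An element of `A` centralises the centraliser of another one, as a set. -/
theorem mem_normalizer_U {a b : Γ} (ha : a ∈ S.A) (hb : b ∈ S.A) :
    b ∈ normalizer (S.U a : Set Γ) := by
  refine inf_normalizer_le_normalizer_inf ⟨S.hAG hb, ?_⟩
  have hab' := S.comm ha hb
  refine mem_normalizer_iff.mpr fun g => ?_
  rw [mem_centralizer_singleton_iff, mem_centralizer_singleton_iff]
  constructor
  · intro hg
    exact (((show Commute a b from hab').symm.mul_left (show Commute g a from hg)).mul_left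
      ((show Commute a b from hab').symm.inv_left)).eq
  · intro hg
    have h1 : Commute b a := (show Commute a b from hab').symm
    have h2 := (h1.inv_left.mul_left (show Commute (b * g * b⁻¹) a from hg)).mul_left h1
    simpa [mul_assoc] using h2.eq

theorem inv_G : S.Inv S.G := ⟨le_rfl, S.hAG⟩

theorem inv_U {a : Γ} (ha : a ∈ S.A) : S.Inv (S.U a) :=
  ⟨S.U_le a, fun _ hb => S.mem_normalizer_U ha hb⟩

variable {S}

theorem Inv.inf {H K : Subgroup Γ} (hH : S.Inv H) (hK : S.A ≤ normalizer (K : Set Γ)) :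
    S.Inv (H ⊓ K) := ⟨inf_le_left.trans hH.le, le_normalizer_inf hH.norm hK⟩

theorem Inv.inf_U {H : Subgroup Γ} (hH : S.Inv H) {a : Γ} (ha : a ∈ S.A) :
    S.Inv (H ⊓ S.U a) := hH.inf (S.inv_U ha).norm

theorem Inv.sup {H K : Subgroup Γ} (hH : S.Inv H) (hK : S.Inv K) : S.Inv (H ⊔ K) :=
  ⟨sup_le hH.le hK.le, le_normalizer_sup hH.norm hK.norm⟩

theorem Inv.commutator {H K : Subgroup Γ} (hH : S.Inv H) (hK : S.Inv K) : S.Inv ⁅H, K⁆ :=
  ⟨(commutator_mono hH.le hK.le).trans (commutator_le.mpr fun _ hg _ hh =>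
      mul_mem (mul_mem (mul_mem hg hh) (inv_mem hg)) (inv_mem hh)),
    fun _ ha => normalizer_commutator ⟨hH.norm ha, hK.norm ha⟩⟩

theorem Inv.centralizer {H : Subgroup Γ} (hH : S.A ≤ normalizer (H : Set Γ)) :
    S.Inv (S.G ⊓ Subgroup.centralizer (H : Set Γ)) :=
  S.inv_G.inf (hH.trans (normalizer_le_normalizer_centralizer H))

theorem Inv.normalizer {H : Subgroup Γ} (hH : S.A ≤ Subgroup.normalizer (H : Set Γ)) :
    S.Inv (S.G ⊓ Subgroup.normalizer (H : Set Γ)) :=
  S.inv_G.inf (hH.trans Subgroup.le_normalizer)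

variable (S)

/-- Generation by fixed points. -/
theorem gen [Finite Γ] {K L : Subgroup Γ} (hK : S.Inv K)
    (h : ∀ a ∈ S.A, a ≠ 1 → K ⊓ S.U a ≤ L) : K ≤ L := by
  have := S.isMulCommutative
  rw [← Coprime.fixedGen_eq S.ncyc hK.norm (S.coprime_A hK.le)]
  exact iSup₂_le fun a ha => (le_inf inf_le_left
    (le_inf (inf_le_left.trans hK.le) inf_le_right)).trans (h a ha.1 ha.2)

/-- If `K ⊓ U a` is trivial for every `a` outside the line of `b` then `K ≤ U b`. -/
theorem gen_line [Finite Γ] {K L : Subgroup Γ} (hK : S.Inv K) {b : Γ} (hb : b ∈ S.A)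
    (h : ∀ a ∈ S.A, a ∉ zpowers b → K ⊓ S.U a ≤ L) (hbL : K ⊓ S.U b ≤ L) : K ≤ L := by
  refine S.gen hK fun a ha ha1 => ?_
  by_cases hab : a ∈ zpowers b
  · rwa [S.U_eq_of_mem hb ha1 hab]
  · exact h a ha hab

/-- Fixed points of `a` in a coset of an invariant subgroup. -/
theorem lift [Finite Γ] {a : Γ} (ha : a ∈ S.A) {E : Subgroup Γ} (hE : E ≤ S.G)
    (haE : a ∈ normalizer (E : Set Γ)) {x : Γ} (hx : x ∈ S.G)
    (hfix : x⁻¹ * (a * x * a⁻¹) ∈ E) : ∃ e ∈ E, x * e ∈ S.U a := by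
  have hle : zpowers a ≤ S.A := zpowers_le.mpr ha
  have : IsMulCommutative (zpowers a) := inferInstance
  obtain ⟨e, he, hxe⟩ := Coprime.exists_fixed_in_coset (A := zpowers a) (N := E) (k := x)
    (zpowers_le.mpr haE) ((S.coprime_A hE).coprime_dvd_left (card_dvd_of_le hle))
    (Or.inl (Coprime.isSolvable_of_isMulCommutative _)) (by
      intro c hc
      obtain ⟨n, rfl⟩ := Submonoid.mem_powers_iff _ _ |>.mp (mem_powers_iff_mem_zpowers.mpr hc)
      induction n with
      | zero => simp [one_mem]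
      | succ n ih =>
        have h2 := mul_mem hfix (conj_mem_of_mem_normalizer haE (ih (pow_mem (mem_zpowers a) n)))
        simpa [pow_succ', mul_assoc] using h2)
  exact ⟨e, he, S.mem_U.mpr ⟨mul_mem hx (hE he),
    (mem_centralizer_iff.mp hxe a (mem_zpowers a)).symm⟩⟩

/-- An invariant subgroup without `b`-fixed points that normalises a group of `b`-fixed points
centralises it. -/
theorem le_centralizer_fixed [Finite Γ] {W H : Subgroup Γ} {b : Γ} (hW : W ≤ S.U b)
    (hbH : b ∈ normalizer (H : Set Γ)) (hHW : H ≤ normalizer (W : Set Γ))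
    (hH : H ≤ S.G) (hfix : H ⊓ S.U b = ⊥) : H ≤ centralizer (W : Set Γ) := by
  have hfix' : H ⊓ centralizer ({b} : Set Γ) = ⊥ := by
    rw [← hfix, U, ← inf_assoc, inf_eq_left.mpr hH]
  intro y hy
  obtain ⟨h, hh, rfl⟩ := exists_disp_eq hbH hfix' hy
  rw [mem_centralizer_iff]
  intro w hw
  have h1 : h * w * h⁻¹ * b = b * (h * w * h⁻¹) :=
    (S.mem_U.mp (hW (conj_mem_of_mem_normalizer (hHW hh) hw))).2
  have h2 : w * b = b * w := (S.mem_U.mp (hW hw)).2
  calc w * (h⁻¹ * (b * h * b⁻¹)) = h⁻¹ * (h * w * h⁻¹ * b) * h * b⁻¹ := by group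
    _ = h⁻¹ * (b * (h * w * h⁻¹)) * h * b⁻¹ := by rw [h1]
    _ = h⁻¹ * b * h * (w * b⁻¹) := by group
    _ = h⁻¹ * b * h * (b⁻¹ * w) := by rw [((show Commute w b from h2).inv_right).eq]
    _ = h⁻¹ * (b * h * b⁻¹) * w := by group

/-- The key lemma: if `H` has no `b`-fixed points and the fixed points of `b` on `W` lie in `E`
then `H` centralises `W` modulo `E`, by Thompson's theorem. -/
theorem commutator_le [Finite Γ] {W H E : Subgroup Γ} {b : Γ} (hb : b ∈ S.A)
    (hWG : W ≤ S.G) (hHG : H ≤ S.G) (hbW : b ∈ normalizer (W : Set Γ))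
    (hbH : b ∈ normalizer (H : Set Γ)) (hHW : H ≤ normalizer (W : Set Γ))
    (hcop : (Nat.card W).Coprime (Nat.card H)) (hEW : E ≤ W)
    (hWE : W ≤ normalizer (E : Set Γ)) (hHE : H ≤ normalizer (E : Set Γ))
    (hbE : b ∈ normalizer (E : Set Γ)) (hfix : H ⊓ S.U b = ⊥) (hWfix : W ⊓ S.U b ≤ E) :
    ⁅W, H⁆ ≤ E := by
  let J := W ⊔ H
  have hJG : J ≤ S.G := sup_le hWG hHG
  have hEJ : E ≤ J := hEW.trans le_sup_left
  let E' := E.subgroupOf J
  have hE' : E'.Normal :=
    (normal_subgroupOf_iff_le_normalizer hEJ).mpr (sup_le hWE hHE)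
  have hbJ : b ∈ normalizer (J : Set Γ) :=
    normalizer_inf_normalizer_le_normalizer_sup W H ⟨hbW, hbH⟩
  let σ : MulAut J := normalizerMonoidHom J ⟨b, hbJ⟩
  have hσ : ∀ x : J, ((σ x : J) : Γ) = b * x * b⁻¹ := fun x => rfl
  have hσE : E'.map σ.toMonoidHom = E' := by
    refine le_antisymm ?_ ?_
    · rintro _ ⟨x, hx, rfl⟩
      show ((σ x : J) : Γ) ∈ E
      rw [hσ]
      exact conj_mem_of_mem_normalizer hbE hx
    · intro x hx
      refine ⟨σ.symm x, ?_, σ.apply_symm_apply x⟩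
      show ((σ.symm x : J) : Γ) ∈ E
      have h1 := hσ (σ.symm x)
      rw [MulEquiv.apply_symm_apply] at h1
      refine (mem_normalizer_iff.mp hbE _).mpr ?_
      rw [← h1]
      exact hx
  let φ : MulAut (J ⧸ E') := QuotientGroup.congr E' E' σ hσE
  have hφpow : ∀ (n : ℕ) (x : J),
      (φ ^ n) (QuotientGroup.mk x) = QuotientGroup.mk ((σ ^ n) x) := by
    intro n
    induction n with
    | zero => intro x; rfl
    | succ n ih =>
      intro x
      rw [pow_succ, pow_succ, MulAut.mul_apply, MulAut.mul_apply]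
      exact ih (σ x)
  have hσq : σ ^ S.q = 1 := by
    have : (⟨b, hbJ⟩ : normalizer (J : Set Γ)) ^ S.q = 1 := Subtype.ext (S.pow_q hb)
    show (normalizerMonoidHom J ⟨b, hbJ⟩) ^ S.q = 1
    rw [← map_pow, this, map_one]
  have hφq : φ ^ S.q = 1 := by
    ext x
    induction x using QuotientGroup.induction_on with
    | _ x => rw [hφpow, hσq]; rfl
  have hfpf : ∀ x, φ x = x → x = 1 := by
    intro x hx
    induction x using QuotientGroup.induction_on with
    | _ x =>
      have hx' : QuotientGroup.mk (σ x) = (QuotientGroup.mk x : J ⧸ E') := hx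
      rw [eq_comm, QuotientGroup.eq] at hx'
      have hx'' : (x : Γ)⁻¹ * (b * x * b⁻¹) ∈ E := hx'
      obtain ⟨e, he, hxe⟩ := S.lift hb (hEW.trans hWG) hbE (hJG x.2) hx''
      obtain ⟨w, hw, h, hh, hwh⟩ :=
        (Coprime.mem_sup_of_le_normalizer hHW).mp (mul_mem x.2 (hEJ he))
      rw [← hwh, mem_U] at hxe
      have hd : w⁻¹ * (b * w * b⁻¹) = h * (b * h * b⁻¹)⁻¹ := by
        calc w⁻¹ * (b * w * b⁻¹) = w⁻¹ * (b * (w * h)) * h⁻¹ * b⁻¹ := by group
          _ = w⁻¹ * (w * h * b) * h⁻¹ * b⁻¹ := by rw [hxe.2]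
          _ = h * (b * h * b⁻¹)⁻¹ := by group
      have hh1 : h * (b * h * b⁻¹)⁻¹ = 1 := by
        have hm : h * (b * h * b⁻¹)⁻¹ ∈ W ⊓ H :=
          ⟨hd ▸ W.mul_mem (W.inv_mem hw) (conj_mem_of_mem_normalizer hbW hw),
            H.mul_mem hh (H.inv_mem (conj_mem_of_mem_normalizer hbH hh))⟩
        rwa [(Coprime.disjoint_of_coprime hcop).eq_bot, mem_bot] at hm
      have hh2 : h = 1 := by
        have hm : h ∈ H ⊓ S.U b := by
          refine ⟨hh, S.mem_U.mpr ⟨hHG hh, ?_⟩⟩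
          exact (mul_inv_eq_iff_eq_mul.mp (mul_inv_eq_one.mp hh1).symm).symm
        rwa [hfix, mem_bot] at hm
      rw [hh2, mul_one] at hwh
      have hxE : (x : Γ) * e ∈ E := hWfix ⟨hwh ▸ hw, S.mem_U.mpr (by
        rw [← hwh]; simpa [hh2] using hxe)⟩
      rw [QuotientGroup.eq_one_iff]
      show (x : Γ) ∈ E
      simpa [mul_assoc] using mul_mem hxE (inv_mem he)
  have hnil : Group.IsNilpotent (J ⧸ E') :=
    Solvable.Thompson.isNilpotent_of_fixedPointFree φ S.hq hfpf hφq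
  rw [Subgroup.commutator_le]
  intro w hw h hh
  let w' : J := ⟨w, mem_sup_left hw⟩
  let h' : J := ⟨h, mem_sup_right hh⟩
  have hc : Commute (QuotientGroup.mk w' : J ⧸ E') (QuotientGroup.mk h') := by
    refine S3939.commute_of_coprime_orders ?_
    refine (hcop.coprime_dvd_left ?_).coprime_dvd_right ?_
    · exact (orderOf_map_dvd (QuotientGroup.mk' E') w').trans
        (by rw [Subgroup.orderOf_mk]; exact Subgroup.orderOf_mk w hw ▸ orderOf_dvd_natCard (⟨w, hw⟩ : W))
    · exact (orderOf_map_dvd (QuotientGroup.mk' E') h').trans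
        (by rw [Subgroup.orderOf_mk]; exact Subgroup.orderOf_mk h hh ▸ orderOf_dvd_natCard (⟨h, hh⟩ : H))
  have hmem : (QuotientGroup.mk ⁅w', h'⁆ : J ⧸ E') = 1 := by
    show QuotientGroup.mk' E' ⁅w', h'⁆ = 1
    rw [map_commutatorElement]
    exact commutatorElement_eq_one_iff_commute.mpr hc
  exact show ((⁅w', h'⁆ : J) : Γ) ∈ E from (QuotientGroup.eq_one_iff (⁅w', h'⁆)).mp hmem

/-- If `H` has no `b`-fixed points and centralises the fixed points of `b` on the solvable group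
`W` then `H` centralises `W`. -/
theorem le_centralizer [Finite Γ] {W H : Subgroup Γ} {b : Γ} (hb : b ∈ S.A)
    (hW : S.Inv W) (hsol : Group.IsSolvable W) (hH : S.Inv H) (hHW : H ≤ normalizer (W : Set Γ))
    (hcop : (Nat.card W).Coprime (Nat.card H)) (hfix : H ⊓ S.U b = ⊥)
    (hWfix : W ⊓ S.U b ≤ centralizer (H : Set Γ)) : H ≤ centralizer (W : Set Γ) := by
  suffices key : ∀ (n : ℕ) (W : Subgroup Γ), Nat.card W ≤ n → S.Inv W → Group.IsSolvable W →
      H ≤ normalizer (W : Set Γ) → (Nat.card W).Coprime (Nat.card H) →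
      W ⊓ S.U b ≤ centralizer (H : Set Γ) → H ≤ centralizer (W : Set Γ) from
    key _ W le_rfl hW hsol hHW hcop hWfix
  intro n
  induction n with
  | zero => intro W hc; exact absurd hc (Nat.not_le.mpr Nat.card_pos)
  | succ n ih =>
    intro W hc hW hsol hHW hcop hWfix
    by_cases hWbot : W = ⊥
    · subst hWbot
      intro h _
      rw [mem_centralizer_iff]
      intro x hx
      rw [SetLike.mem_coe, mem_bot] at hx
      simp [hx]
    have hsmall : ∀ T : Subgroup Γ, T < W → S.Inv T → H ≤ normalizer (T : Set Γ) →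
        H ≤ centralizer (T : Set Γ) := by
      intro T hT hTi hHT
      have hlt : Nat.card T < Nat.card W := by
        rcases (Subgroup.card_le_of_le hT.le).lt_or_eq with h | h
        · exact h
        · exact absurd (eq_of_le_of_card_ge hT.le h.ge) hT.ne
      exact ih T (by omega) hTi (Coprime.isSolvable_of_le hT.le hsol) hHT
        (hcop.coprime_dvd_left (card_dvd_of_le hT.le)) ((inf_le_inf_right _ hT.le).trans hWfix)
    have hT : ⁅W, H⁆ ≤ W := Coprime.commutator_le_of_le_normalizer hHW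
    rcases hT.lt_or_eq with hlt | heq
    · exact Coprime.le_centralizer_of_series hHW hcop.symm (Or.inr hsol)
        (hsmall _ hlt (hW.commutator hH) (normalizer_commutator_ge_right W H)) le_rfl
    · let W' := ⁅W, W⁆
      have hW'lt : W' < W := Coprime.commutator_lt_of_isSolvable hsol hWbot
      have hHW' : H ≤ normalizer (W' : Set Γ) := fun h hh =>
        normalizer_commutator ⟨hHW hh, hHW hh⟩
      have hc' : H ≤ centralizer (W' : Set Γ) := hsmall W' hW'lt (hW.commutator hW) hHW'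
      let E := W ⊓ centralizer (H : Set Γ)
      have hW'E : W' ≤ E := le_inf hW'lt.le (le_centralizer_iff.mp hc')
      have hWE : W ≤ normalizer (E : Set Γ) := by
        rw [le_normalizer_iff]
        intro w hw x hx
        have hx' : w * x * w⁻¹ * x⁻¹ ∈ E := hW'E (commutator_mem_commutator hw hx.1)
        simpa using mul_mem hx' hx
      have hle := S.commutator_le hb hW.le hH.le (hW.norm hb) (hH.norm hb) hHW hcop
        (inf_le_left : E ≤ W) hWE
        (le_normalizer_inf hHW (le_normalizer.trans (normalizer_le_normalizer_centralizer H)))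
        (inf_normalizer_le_normalizer_inf
          ⟨hW.norm hb, normalizer_le_normalizer_centralizer H (hH.norm hb)⟩)
        hfix (le_inf inf_le_left hWfix)
      rw [heq] at hle
      exact le_centralizer_iff.mp (hle.trans inf_le_right)

end Ctx

end Cfsg.Agent.AbelianFixed
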