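import Cfsg.Agent.Lib.AbelianFixed.Basic

/-!
Quotients of the data, and: if `G` is solvable and `A` fixes only `1` then `G'` is nilpotent.
-/

set_option autoImplicit false

namespace Cfsg.Agent.AbelianFixed

open Subgroup
open scoped Pointwise commutatorElement

universe u

namespace Ctx

variable {Γ : Type u} [Group Γ] (S : Ctx Γ)

/-- The same action on an invariant subgroup. -/
def restrict {K : Subgroup Γ} (hK : S.Inv K) : Ctx Γ where
  G := K
  A := S.A
  q := S.q
  hq := S.hq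
  cardA := S.cardA
  ncyc := S.ncyc
  hAG := hK.norm
  hcop := S.not_q_dvd hK.le
  hab := fun a ha ha1 => (inf_le_inf_right _ hK.le).trans ((S.hab a ha ha1).trans
    (centralizer_le (inf_le_inf_right _ hK.le)))

theorem restrict_fixed {K : Subgroup Γ} (hK : S.Inv K)
    (hA1 : S.G ⊓ centralizer (S.A : Set Γ) = ⊥) :
    (S.restrict hK).G ⊓ centralizer ((S.restrict hK).A : Set Γ) = ⊥ :=
  le_bot_iff.mp (hA1 ▸ inf_le_inf_right _ hK.le)

section Quot

variable (V : Subgroup Γ)

/-- The map to `N(V)/V`. -/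
abbrev qmap : normalizer (V : Set Γ) →*
    normalizer (V : Set Γ) ⧸ V.subgroupOf (normalizer (V : Set Γ)) :=
  QuotientGroup.mk' _

/-- The image in `N(V)/V`. -/
abbrev qimg (H : Subgroup Γ) : Subgroup
    (normalizer (V : Set Γ) ⧸ V.subgroupOf (normalizer (V : Set Γ))) :=
  (H.subgroupOf (normalizer (V : Set Γ))).map (qmap V)

variable {V}

theorem qimg_range {H : Subgroup Γ} (hH : H ≤ normalizer (V : Set Γ)) :
    ((qmap V).comp (inclusion hH)).range = qimg V H := by
  rw [MonoidHom.range_comp, inclusion_range hH]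

theorem qmap_eq_one {H : Subgroup Γ} (hH : H ≤ normalizer (V : Set Γ)) {x : H} :
    (qmap V).comp (inclusion hH) x = 1 ↔ (x : Γ) ∈ V := by
  rw [MonoidHom.comp_apply, QuotientGroup.mk'_apply, QuotientGroup.eq_one_iff]
  rfl

theorem qimg_card_dvd {H : Subgroup Γ} (hH : H ≤ normalizer (V : Set Γ)) :
    Nat.card (qimg V H) ∣ Nat.card H := by
  rw [← qimg_range hH]; exact card_range_dvd _

theorem qimg_card_lt [Finite Γ] {H : Subgroup Γ} (hH : H ≤ normalizer (V : Set Γ))
    (hVH : V ≤ H) (hV : V ≠ ⊥) : Nat.card (qimg V H) < Nat.card H := by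
  obtain ⟨⟨v, hv⟩, hv1⟩ := exists_ne_one_of_ne_bot' hV
  rw [← qimg_range hH, ← index_ker, ← card_mul_index ((qmap V).comp (inclusion hH)).ker]
  have h1 : 1 < Nat.card ((qmap V).comp (inclusion hH)).ker := by
    refine Finite.one_lt_card_iff_nontrivial.mpr ((nontrivial_iff_ne_bot _).mpr fun hb => hv1 ?_)
    have hm : (⟨v, hVH hv⟩ : H) ∈ ((qmap V).comp (inclusion hH)).ker :=
      (qmap_eq_one hH).mpr hv
    rw [hb, mem_bot] at hm
    exact Subtype.ext (congrArg Subtype.val hm :)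
  exact lt_mul_left (Nat.pos_of_ne_zero index_ne_zero_of_finite) h1
where
  exists_ne_one_of_ne_bot' {K : Subgroup Γ} (h : K ≠ ⊥) : ∃ x : K, x ≠ 1 := by
    have := (nontrivial_iff_ne_bot K).mpr h
    exact exists_ne 1

/-- The data induced on `N(V)/V`. -/
theorem quot_hab [Finite Γ] (hG : S.G ≤ normalizer (V : Set Γ))
    (a' : normalizer (V : Set Γ) ⧸ V.subgroupOf (normalizer (V : Set Γ)))
    (ha : a' ∈ qimg V S.A) (ha1 : a' ≠ 1) :
    qimg V S.G ⊓ centralizer {a'} ≤
      centralizer ((qimg V S.G ⊓ centralizer {a'} : Subgroup _) : Set _) := by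
  obtain ⟨⟨a, haN⟩, haA, rfl⟩ := ha
  have haA' : a ∈ S.A := haA
  have ha0 : a ≠ 1 := fun h => ha1 (by subst h; exact map_one _)
  let a₀ : normalizer (V : Set Γ) := ⟨a, haN⟩
  have key := Coprime.map_inf_centralizer (qmap V) (A := zpowers a₀)
    (K := S.G.subgroupOf (normalizer (V : Set Γ)))
    (zpowers_le.mpr (by
      refine mem_normalizer_of_conj_mem fun g hg => ?_
      exact mem_subgroupOf.mpr (conj_mem_of_mem_normalizer (H := S.G) (S.hAG haA') hg)))
    (by
      rw [Nat.card_zpowers, orderOf_mk, S.orderOf_eq haA' ha0,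
        Nat.card_congr (subgroupOfEquivOfLe hG).toEquiv]
      exact S.hq.coprime_iff_not_dvd.mpr S.hcop)
    (Or.inl (Coprime.isSolvable_of_isMulCommutative _))
  rw [MonoidHom.map_zpowers, zpowers_eq_closure, zpowers_eq_closure, centralizer_closure,
    centralizer_closure] at key
  rw [← key]
  rintro _ ⟨x, hx, rfl⟩
  rw [mem_centralizer_iff]
  rintro _ ⟨y, hy, rfl⟩
  rw [← map_mul, ← map_mul]
  congr 1
  have hm : ∀ z : normalizer (V : Set Γ),
      z ∈ S.G.subgroupOf (normalizer (V : Set Γ)) ⊓ centralizer {a₀} → (z : Γ) ∈ S.U a :=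
    fun z hz => S.mem_U.mpr ⟨hz.1,
      congrArg Subtype.val (mem_centralizer_singleton_iff.mp hz.2)⟩
  exact Subtype.ext (S.U_comm haA' ha0 (hm y hy) (hm x hx))

theorem qimg_A_equiv [Finite Γ] (hV : S.A ≤ normalizer (V : Set Γ)) (hVG : V ≤ S.G) :
    Nonempty (S.A ≃* qimg V S.A) := by
  have hinj : Function.Injective ((qmap V).comp (inclusion hV)) := by
    rw [injective_iff_map_eq_one]
    intro x hx
    have hx' := (qmap_eq_one hV).mp hx
    have hd : (x : Γ) ∈ S.A ⊓ V := ⟨x.2, hx'⟩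
    rw [(Coprime.disjoint_of_coprime (S.coprime_A hVG)).eq_bot, mem_bot] at hd
    exact Subtype.ext hd
  exact ⟨(MonoidHom.ofInjective hinj).trans (MulEquiv.subgroupCongr (qimg_range hV))⟩

/-- The quotient data. -/
def quot [Finite Γ] (hV : S.Inv V) (hG : S.G ≤ normalizer (V : Set Γ)) :
    Ctx (normalizer (V : Set Γ) ⧸ V.subgroupOf (normalizer (V : Set Γ))) where
  G := qimg V S.G
  A := qimg V S.A
  q := S.q
  hq := S.hq
  cardA := by
    obtain ⟨e⟩ := S.qimg_A_equiv hV.norm hV.le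
    rw [← Nat.card_congr e.toEquiv, S.cardA]
  ncyc := by
    obtain ⟨e⟩ := S.qimg_A_equiv hV.norm hV.le
    intro h
    exact S.ncyc (isCyclic_of_surjective e.symm.toMonoidHom e.symm.surjective)
  hAG := by
    rw [le_normalizer_iff]
    rintro _ ⟨a, ha, rfl⟩ _ ⟨g, hg, rfl⟩
    exact ⟨a * g * a⁻¹, mem_subgroupOf.mpr (conj_mem_of_mem_normalizer (H := S.G) (S.hAG ha) hg),
      by simp⟩
  hcop := fun h => S.hcop (h.trans (qimg_card_dvd hG))
  hab := fun a ha ha1 => S.quot_hab hG a ha ha1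

theorem quot_fixed [Finite Γ] (hV : S.Inv V) (hG : S.G ≤ normalizer (V : Set Γ))
    (hA1 : S.G ⊓ centralizer (S.A : Set Γ) = ⊥) :
    (S.quot hV hG).G ⊓ centralizer ((S.quot hV hG).A : Set _) = ⊥ := by
  show qimg V S.G ⊓ centralizer (qimg V S.A : Set _) = ⊥
  have key := Coprime.map_inf_centralizer (qmap V)
    (A := S.A.subgroupOf (normalizer (V : Set Γ)))
    (K := S.G.subgroupOf (normalizer (V : Set Γ)))
    (fun a ha => mem_normalizer_of_conj_mem fun g hg =>
      mem_subgroupOf.mpr (conj_mem_of_mem_normalizer (H := S.G) (S.hAG ha) hg))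
    (by
      rw [Nat.card_congr (subgroupOfEquivOfLe hG).toEquiv,
        Nat.card_congr (subgroupOfEquivOfLe hV.norm).toEquiv]
      exact S.coprime_A le_rfl)
    (Or.inl (by
      have h := S.isSolvable_A
      exact Group.isSolvable_of_isSolvable_injective
        (f := (subgroupOfEquivOfLe hV.norm).toMonoidHom)
        (subgroupOfEquivOfLe hV.norm).injective))
  rw [← key, Subgroup.map_eq_bot_iff]
  intro x hx
  have h : (x : Γ) ∈ S.G ⊓ centralizer (S.A : Set Γ) :=
    ⟨hx.1, mem_centralizer_iff.mpr fun a ha =>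
      congrArg Subtype.val (mem_centralizer_iff.mp hx.2 ⟨a, hV.norm ha⟩ ha)⟩
  rw [hA1, mem_bot] at h
  rw [MonoidHom.mem_ker, show x = 1 from Subtype.ext h, map_one]

/-- Solvability of an extension. -/
theorem isSolvable_of_quot [Finite Γ] (hG : S.G ≤ normalizer (V : Set Γ))
    (hVG : V ≤ S.G) (h1 : Group.IsSolvable V) (h2 : Group.IsSolvable (qimg V S.G)) :
    Group.IsSolvable S.G := by
  let ψ := (qmap V).comp (inclusion hG)
  have h3 : Group.IsSolvable ψ.range := by rw [qimg_range hG]; exact h2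
  exact Group.isSolvable_of_ker_le_range (inclusion hVG) ψ.rangeRestrict
    (fun x hx => ⟨⟨x, (qmap_eq_one hG).mp (by
      rwa [MonoidHom.ker_rangeRestrict, MonoidHom.mem_ker] at hx)⟩, Subtype.ext rfl⟩)

end Quot

/-- If `C` is normalised by the abelian group `U` then `C ⊔ U` has its derived group in `C`. -/
theorem commutator_sup_le {C U : Subgroup Γ} (hU : U ≤ normalizer (C : Set Γ))
    (hUab : ∀ x ∈ U, ∀ y ∈ U, x * y = y * x) : ⁅C ⊔ U, C ⊔ U⁆ ≤ C := by
  rw [Subgroup.commutator_le]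
  intro x hx y hy
  obtain ⟨c₁, hc₁, u₁, hu₁, rfl⟩ := (Coprime.mem_sup_of_le_normalizer hU).mp hx
  obtain ⟨c₂, hc₂, u₂, hu₂, rfl⟩ := (Coprime.mem_sup_of_le_normalizer hU).mp hy
  have e : ⁅c₁ * u₁, c₂ * u₂⁆ =
      c₁ * (u₁ * c₂ * u₁⁻¹) * (u₂ * c₁⁻¹ * u₂⁻¹) * c₂⁻¹ := by
    calc ⁅c₁ * u₁, c₂ * u₂⁆
        = c₁ * (u₁ * c₂ * u₁⁻¹) * ((u₁ * u₂) * u₁⁻¹ * c₁⁻¹ * u₂⁻¹) * c₂⁻¹ := by
          rw [commutatorElement_def]; group
      _ = c₁ * (u₁ * c₂ * u₁⁻¹) * ((u₂ * u₁) * u₁⁻¹ * c₁⁻¹ * u₂⁻¹) * c₂⁻¹ := by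
          rw [hUab u₁ hu₁ u₂ hu₂]
      _ = _ := by group
  rw [e]
  exact mul_mem (mul_mem (mul_mem hc₁ (conj_mem_of_mem_normalizer (hU hu₁) hc₂))
    (conj_mem_of_mem_normalizer (hU hu₂) (inv_mem hc₁))) (inv_mem hc₂)

/-- `G'` centralises a minimal invariant normal `r`-subgroup. -/
theorem commutator_le_centralizer [Finite Γ] (hA1 : S.G ⊓ centralizer (S.A : Set Γ) = ⊥)
    (hsol : Group.IsSolvable S.G) {r : ℕ} [Fact r.Prime] {V : Subgroup Γ} (hV : S.Inv V)
    (hGV : S.G ≤ normalizer (V : Set Γ)) (hVr : IsPGroup r V)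
    (hVab : ∀ x ∈ V, ∀ y ∈ V, x * y = y * x) (hVbot : V ≠ ⊥)
    (hmin : ∀ W : Subgroup Γ, S.Inv W → S.G ≤ normalizer (W : Set Γ) → W ≤ V → W = ⊥ ∨ W = V) :
    ⁅S.G, S.G⁆ ≤ centralizer (V : Set Γ) := by
  have hVcomm : IsMulCommutative V := ⟨⟨fun x y => Subtype.ext (hVab x x.2 y y.2)⟩⟩
  have hVsol : Group.IsSolvable V := Coprime.isSolvable_of_isMulCommutative V
  let C := S.G ⊓ centralizer (V : Set Γ)
  have hC : S.Inv C := Inv.centralizer hV.norm
  have hGC : S.G ≤ normalizer (C : Set Γ) :=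
    le_normalizer_inf le_normalizer (hGV.trans (normalizer_le_normalizer_centralizer V))
  suffices h : ⁅S.G, S.G⁆ ≤ C from h.trans inf_le_right
  by_contra hnot
  have hne : C ≠ S.G := fun h => hnot (h.symm ▸ (S.inv_G.commutator S.inv_G).le)
  -- a minimal invariant normal subgroup above `C`
  obtain ⟨N₀, ⟨hN, hGN, hCN⟩, hNmin⟩ := Set.Finite.exists_minimal
    (Set.toFinite {N : Subgroup Γ | S.Inv N ∧ S.G ≤ normalizer (N : Set Γ) ∧ C < N})
    ⟨S.G, S.inv_G, le_normalizer, lt_of_le_of_ne hC.le hne⟩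
  have hN0min : ∀ N : Subgroup Γ, S.Inv N → S.G ≤ normalizer (N : Set Γ) → C < N → N ≤ N₀ →
      N = N₀ := fun N h1 h2 h3 h4 => le_antisymm h4 (hNmin ⟨h1, h2, h3⟩ h4)
  have hN0C : N₀ ≤ normalizer (C : Set Γ) := hN.le.trans hGC
  have hN0sol : Group.IsSolvable N₀ := Coprime.isSolvable_of_le hN.le hsol
  have hder : ⁅N₀, N₀⁆ ≤ C := by
    by_contra hd
    have hle : ⁅N₀, N₀⁆ ⊔ C ≤ N₀ :=
      sup_le (Coprime.commutator_le_of_le_normalizer le_normalizer) hCN.le
    have heq := hN0min _ ((hN.commutator hN).sup hC)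
      (le_normalizer_sup (fun g hg => normalizer_commutator ⟨hGN hg, hGN hg⟩) hGC)
      (lt_of_le_of_ne le_sup_right fun h => hd (h.symm ▸ le_sup_left)) hle
    -- then `N₀ = N₀' C`, so the image in `N(C)/C` is perfect
    have himg : qimg C N₀ = ⁅qimg C N₀, qimg C N₀⁆ := by
      refine le_antisymm ?_ (Coprime.commutator_le_of_le_normalizer le_normalizer)
      rw [← map_commutator]
      rintro _ ⟨x, hx, rfl⟩
      have hx' : (x : Γ) ∈ ⁅N₀, N₀⁆ ⊔ C := by rw [heq]; exact hx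
      rw [sup_comm] at hx'
      obtain ⟨c, hc, d, hd', hcd⟩ := (Coprime.mem_sup_of_le_normalizer
        ((Coprime.commutator_le_of_le_normalizer le_normalizer).trans hN0C)).mp hx'
      have hdN : d ∈ normalizer (C : Set Γ) :=
        hN0C (Coprime.commutator_le_of_le_normalizer le_normalizer hd')
      refine ⟨⟨d, hdN⟩, ?_, ?_⟩
      · have h2 : (⁅N₀.subgroupOf (normalizer (C : Set Γ)), N₀.subgroupOf _⁆).map
            (normalizer (C : Set Γ)).subtype = ⁅N₀, N₀⁆ := by
          rw [map_commutator, map_subgroupOf_eq_of_le hN0C]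
        rw [← h2] at hd'
        obtain ⟨z, hz, hzd⟩ := hd'
        have : z = ⟨d, hdN⟩ := Subtype.ext hzd
        exact this ▸ hz
      · rw [QuotientGroup.mk'_apply, QuotientGroup.mk'_apply, eq_comm, ← inv_inv (x : _),
          QuotientGroup.eq]
        show ((x : Γ))⁻¹⁻¹⁻¹ * d ∈ C
        rw [inv_inv, ← hcd]
        simpa [mul_assoc] using conj_mem_of_mem_normalizer (inv_mem hdN) (inv_mem hc)
    have hs : Group.IsSolvable (qimg C N₀) :=
      Coprime.isSolvable_map _ (Group.isSolvable_of_isSolvable_injective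
        (f := (subgroupOfEquivOfLe hN0C).toMonoidHom) (subgroupOfEquivOfLe hN0C).injective)
    by_cases hb : qimg C N₀ = ⊥
    · exact (not_le_of_gt hCN) fun x hx => (qmap_eq_one hN0C (x := ⟨x, hx⟩)).mp (by
        have hm : (qmap C) ⟨x, hN0C hx⟩ ∈ qimg C N₀ := ⟨_, hx, rfl⟩
        rwa [hb, mem_bot] at hm)
    · exact (Coprime.commutator_lt_of_isSolvable hs hb).ne himg.symm
  -- a prime `s` and an invariant Sylow subgroup
  obtain ⟨s, hs, hsdvd⟩ : ∃ s, s.Prime ∧ s ∣ C.relIndex N₀ := by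
    refine Nat.exists_prime_and_dvd fun h => not_le_of_gt hCN ?_
    exact relIndex_eq_one.mp h
  have := Fact.mk hs
  obtain ⟨Q, hQ⟩ := Coprime.exists_invariant_sylow s hN.norm (S.coprime_A hN.le)
    (Or.inl S.isSolvable_A)
  let N₁ := (Q : Subgroup N₀).map N₀.subtype
  have hN1le : N₁ ≤ N₀ := map_subtype_le _
  have hN1 : S.Inv N₁ := ⟨hN1le.trans hN.le, hQ⟩
  have hN1s : IsPGroup s N₁ := Q.2.map _
  have hN1C : ¬ N₁ ≤ C := by
    intro h
    have h1 : Nat.card Q ∣ Nat.card C := by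
      rw [← card_map_of_injective (K := (Q : Subgroup N₀)) N₀.subtype_injective]
      exact card_dvd_of_le h
    have h2 : Nat.card C * C.relIndex N₀ = Nat.card N₀ := by
      rw [relIndex, ← Nat.card_congr (subgroupOfEquivOfLe hCN.le).toEquiv, card_mul_index]
    have h3 : s ^ ((Nat.card N₀).factorization s + 1) ∣ Nat.card N₀ := by
      rw [pow_succ]
      conv_rhs => rw [← h2]
      exact Nat.mul_dvd_mul (Q.card_eq_multiplicity ▸ h1) hsdvd
    have h4 := (hs.pow_dvd_iff_le_factorization Nat.card_pos.ne').mp h3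
    omega
  have hN1nC : N₁ ≤ normalizer (C : Set Γ) := hN1le.trans hN0C
  have hGN1C : S.G ≤ normalizer ((C ⊔ N₁ : Subgroup Γ) : Set Γ) := by
    intro g hg
    refine mem_normalizer_of_conj_mem fun x hx => ?_
    obtain ⟨c, hc, y, hy, rfl⟩ := (Coprime.mem_sup_of_le_normalizer hN1nC).mp hx
    have hle : MulAut.conj g • N₁ ≤ N₀ := fun z hz => by
      rw [Coprime.mem_conj_smul] at hz
      simpa [mul_assoc] using conj_mem_of_mem_normalizer (hGN hg) (hN1le hz)
    obtain ⟨n, hn, hne'⟩ := Coprime.exists_conj_sylow_map hle Q (by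
      rw [Coprime.card_conj_smul, Subgroup.card_subtype])
    have hy' : g * y * g⁻¹ ∈ MulAut.conj n • N₁ := hne' ▸ Coprime.conj_mem_conj_smul hy
    rw [Coprime.mem_conj_smul] at hy'
    have hcomm : ⁅n, n⁻¹ * (g * y * g⁻¹) * n⁆ ∈ C :=
      hder (commutator_mem_commutator hn (hN1le hy'))
    have e : g * y * g⁻¹ =
        ⁅n, n⁻¹ * (g * y * g⁻¹) * n⁆ * (n⁻¹ * (g * y * g⁻¹) * n) := by
      rw [commutatorElement_def]; group
    rw [show g * (c * y) * g⁻¹ = g * c * g⁻¹ * (g * y * g⁻¹) by group]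
    refine mul_mem (mem_sup_left (conj_mem_of_mem_normalizer (hGC hg) hc)) ?_
    rw [e]
    exact mul_mem (mem_sup_left hcomm) (mem_sup_right hy')
  have hN0eq : C ⊔ N₁ = N₀ := hN0min _ (hC.sup hN1) hGN1C
    (lt_of_le_of_ne le_sup_left fun h => hN1C (h.symm ▸ le_sup_right)) (sup_le hCN.le hN1le)
  have hN1V : N₁ ≤ normalizer (V : Set Γ) := hN1.le.trans hGV
  have hfixV : V ⊓ centralizer (N₁ : Set Γ) = ⊥ := by
    have h0 : V ⊓ centralizer (N₁ : Set Γ) = V ⊓ centralizer (N₀ : Set Γ) := by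
      refine le_antisymm (le_inf inf_le_left ?_) (inf_le_inf_left _ (centralizer_le hN1le))
      rw [le_centralizer_iff, ← hN0eq]
      refine sup_le ?_ (le_centralizer_iff.mp inf_le_right)
      exact (inf_le_right : C ≤ centralizer (V : Set Γ)).trans (centralizer_le inf_le_left)
    rw [h0]
    refine (hmin _ (hV.inf (hN.norm.trans (normalizer_le_normalizer_centralizer N₀)))
      (le_normalizer_inf hGV (hGN.trans (normalizer_le_normalizer_centralizer N₀)))
      inf_le_left).resolve_right fun h => hN1C ?_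
    exact le_inf hN1.le (hN1le.trans (le_centralizer_iff.mp (inf_eq_left.mp h)))
  have hsr : s ≠ r := by
    rintro rfl
    have hJ : IsPGroup s ↥(V ⊔ N₁) := IsPGroup.to_sup_of_normal_left' hVr hN1s hN1V
    have := hJ.isNilpotent
    have hnorm : (V.subgroupOf (V ⊔ N₁)).Normal :=
      (normal_subgroupOf_iff_le_normalizer le_sup_left).mpr (sup_le le_normalizer hN1V)
    refine Cores.inf_center_ne_bot (N := V.subgroupOf (V ⊔ N₁)) (fun h => hVbot ?_) ?_
    · rw [← map_subgroupOf_eq_of_le (le_sup_left : V ≤ V ⊔ N₁), h, Subgroup.map_bot]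
    · refine le_bot_iff.mp fun x hx => ?_
      have hm : (x : Γ) ∈ V ⊓ centralizer (N₁ : Set Γ) :=
        ⟨hx.1, mem_centralizer_iff.mpr fun y hy =>
          congrArg Subtype.val (mem_center_iff.mp hx.2 ⟨y, mem_sup_right hy⟩)⟩
      rw [hfixV, mem_bot] at hm
      exact Subtype.ext hm
  have hcopV : ∀ H : Subgroup Γ, H ≤ N₁ → (Nat.card V).Coprime (Nat.card H) := fun H hH =>
    (IsPGroup.coprime_card_of_ne r s hsr.symm V N₁ hVr hN1s).coprime_dvd_right
      (card_dvd_of_le hH)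
  -- the subgroups `W c`
  let W : Γ → Subgroup Γ := fun c => ⁅V, N₁ ⊓ S.U c⁆
  have hWV : ∀ c, W c ≤ V := fun c =>
    Coprime.commutator_le_of_le_normalizer (inf_le_left.trans hN1V)
  have hWi : ∀ c ∈ S.A, S.Inv (W c) := fun c hc => hV.commutator (hN1.inf_U hc)
  have hWsol : ∀ c, Group.IsSolvable (W c) := fun c => Coprime.isSolvable_of_le (hWV c) hVsol
  have hN0W : ∀ c, N₀ ≤ normalizer (W c : Set Γ) := by
    intro c
    rw [← hN0eq]
    refine sup_le (fun z hz => mem_normalizer_of_conj_mem fun x hx => ?_) ?_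
    · rwa [← mem_centralizer_iff.mp hz.2 x (hWV c hx), mul_inv_cancel_right]
    intro n hn
    rw [← Coprime.conj_smul_eq_self_iff]
    refine eq_of_le_of_card_ge ?_ (Coprime.card_conj_smul _ _).ge
    rw [Coprime.conj_smul_commutator, Coprime.conj_smul_eq_self_iff.mpr (hN1V hn),
      Subgroup.commutator_le]
    intro v hv h' hh'
    rw [Coprime.mem_conj_smul] at hh'
    have hz : ⁅n, n⁻¹ * h' * n⁆ ∈ C := hder (commutator_mem_commutator (hN1le hn) (hN1le hh'.1))
    have e : h' = ⁅n, n⁻¹ * h' * n⁆ * (n⁻¹ * h' * n) := by rw [commutatorElement_def]; group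
    have hm : ⁅v, n⁻¹ * h' * n⁆ ∈ W c := commutator_mem_commutator hv hh'
    generalize n⁻¹ * h' * n = y at e hz hm hh'
    generalize ⁅n, y⁆ = z at e hz
    subst e
    have hzc := fun x (hx : x ∈ V) => mem_centralizer_iff.mp hz.2 x hx
    have e2 : ⁅v, z * y⁆ = z * ⁅v, y⁆ * z⁻¹ := by
      calc ⁅v, z * y⁆ = v * z * y * v⁻¹ * y⁻¹ * z⁻¹ := by rw [commutatorElement_def]; group
        _ = z * v * y * v⁻¹ * y⁻¹ * z⁻¹ := by rw [hzc v hv]
        _ = z * ⁅v, y⁆ * z⁻¹ := by rw [commutatorElement_def]; group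
    rwa [e2, ← hzc _ (hWV c hm), mul_inv_cancel_right]
  have hUbot : ∀ {a c}, a ∈ S.A → a ≠ 1 → c ∈ S.A → c ∉ zpowers a → ∀ {X : Subgroup Γ},
      X ⊓ S.U c ⊓ S.U a = ⊥ := by
    intro a c ha ha1 hc hca X
    rw [inf_assoc, inf_comm (S.U c), S.U_inf_U_eq_bot hA1 ha ha1 hc hca, inf_bot_eq]
  have hWfix : ∀ c ∈ S.A, c ≠ 1 → W c ⊓ S.U c = ⊥ := by
    intro c hc hc1
    have h1 := Coprime.inf_centralizer_inf_commutator (A := N₁ ⊓ S.U c) (V := V)
      (inf_le_left.trans hN1V) ((hcopV _ inf_le_left).symm)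
    refine le_bot_iff.mp (fun x hx => h1 ▸ ?_)
    exact ⟨⟨hWV c hx.1, mem_centralizer_iff.mpr fun y hy => S.U_comm hc hc1 hy.2 hx.2⟩, hx.1⟩
  have hWd : ∀ c ∈ S.A, c ≠ 1 → ∀ d ∈ S.A, d ∉ zpowers c →
      N₁ ⊓ S.U d ≤ centralizer (W c : Set Γ) := by
    intro c hc hc1 d hd hdc
    exact S.le_centralizer hc (hWi c hc) (hWsol c) (hN1.inf_U hd)
      ((inf_le_left.trans hN1le).trans (hN0W c))
      ((hcopV _ inf_le_left).coprime_dvd_left (card_dvd_of_le (hWV c)))
      (hUbot hc hc1 hd hdc) (by rw [hWfix c hc hc1]; exact bot_le)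
  have hWc : ∀ c, ⁅W c, N₁ ⊓ S.U c⁆ = W c := fun c =>
    Coprime.commutator_commutator_eq (inf_le_left.trans hN1V) (hcopV _ inf_le_left).symm
      (Or.inr hVsol)
  have hGW : ∀ c ∈ S.A, c ≠ 1 → S.G ≤ normalizer (W c : Set Γ) := by
    intro c hc hc1
    refine S.gen S.inv_G fun b hb hb1 g hg => ?_
    have hgU : g ∈ S.U b := hg.2
    refine mem_normalizer_of_conj_mem ?_
    by_cases hbc : b ∈ zpowers c
    · -- `g` commutes with `N₁ ⊓ U c`
      rw [S.U_eq_of_mem hc hb1 hbc] at hgU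
      intro x hx
      have hW : MulAut.conj g • W c ≤ W c := by
        rw [Coprime.conj_smul_commutator, Coprime.conj_smul_eq_self_iff.mpr (hGV hg.1)]
        refine commutator_mono le_rfl fun y hy => ?_
        rw [Coprime.mem_conj_smul] at hy
        have hyU : g⁻¹ * y * g ∈ S.U c := hy.2
        have e : y = g⁻¹ * y * g := by
          calc y = g * (g⁻¹ * y * g) * g⁻¹ := by group
            _ = g⁻¹ * y * g := by rw [S.U_comm hc hc1 hgU hyU, mul_inv_cancel_right]
        exact e ▸ hy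
      exact hW (Coprime.conj_mem_conj_smul hx)
    · let E := W c ⊓ (W c).comap (MulAut.conj g).toMonoidHom
      have hbg : b * g = g * b := (S.mem_U.mp hgU).2.symm
      have hfixg : W c ⊓ S.U b ≤ E := by
        intro x hx
        refine ⟨hx.1, ?_⟩
        show g * x * g⁻¹ ∈ W c
        rw [S.U_comm hb hb1 hgU hx.2, mul_inv_cancel_right]
        exact hx.1
      have hle := S.commutator_le (W := W c) (H := N₁ ⊓ S.U c) (E := E) hb (hWi c hc).le
        (hN1.inf_U hc).le ((hWi c hc).norm hb) ((hN1.inf_U hc).norm hb)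
        ((inf_le_left.trans hN1le).trans (hN0W c))
        ((hcopV _ inf_le_left).coprime_dvd_left (card_dvd_of_le (hWV c))) inf_le_left
        (fun x hx => mem_normalizer_of_conj_mem fun y hy => by
          rwa [hVab x (hWV c hx) y (hWV c hy.1), mul_inv_cancel_right])
        (fun n hn => mem_normalizer_of_conj_mem fun y hy => by
          refine ⟨conj_mem_of_mem_normalizer (hN0W c (hN1le hn.1)) hy.1, ?_⟩
          show g * (n * y * n⁻¹) * g⁻¹ ∈ W c
          have hm : g * n * g⁻¹ ∈ N₀ := conj_mem_of_mem_normalizer (hGN hg.1) (hN1le hn.1)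
          have h2 : g * y * g⁻¹ ∈ W c := hy.2
          simpa [mul_assoc] using conj_mem_of_mem_normalizer (hN0W c hm) h2)
        (mem_normalizer_of_conj_mem fun y hy => by
          refine ⟨conj_mem_of_mem_normalizer ((hWi c hc).norm hb) hy.1, ?_⟩
          show g * (b * y * b⁻¹) * g⁻¹ ∈ W c
          have h2 : g * y * g⁻¹ ∈ W c := hy.2
          have e : g * (b * y * b⁻¹) * g⁻¹ = b * (g * y * g⁻¹) * b⁻¹ := by
            calc g * (b * y * b⁻¹) * g⁻¹ = g * b * y * (g * b)⁻¹ := by group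
              _ = b * g * y * (b * g)⁻¹ := by rw [hbg]
              _ = _ := by group
          rw [e]
          exact conj_mem_of_mem_normalizer ((hWi c hc).norm hb) h2)
        (hUbot hb hb1 hc (S.not_mem_symm hb hc1 hbc)) hfixg
      rw [hWc c] at hle
      exact fun x hx => (hle hx).2
  -- some `W c` is `V`
  obtain ⟨c, hc, hc1, hWcV⟩ : ∃ c ∈ S.A, c ≠ 1 ∧ W c = V := by
    by_contra hall
    push Not at hall
    refine hN1C (le_inf hN1.le (S.gen hN1 fun c hc hc1 => ?_))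
    have h0 := (hmin _ (hWi c hc) (hGW c hc hc1) (hWV c)).resolve_right (hall c hc hc1)
    exact Coprime.commutator_eq_bot_iff_le_centralizer'.mp h0
  let H := N₁ ⊓ S.U c
  have hHnC : H ≤ normalizer (C : Set Γ) := inf_le_left.trans hN1nC
  have hN0eq' : C ⊔ H = N₀ := by
    refine le_antisymm (sup_le hCN.le (inf_le_left.trans hN1le)) ?_
    rw [← hN0eq]
    refine sup_le le_sup_left (S.gen_line hN1 hc (fun d hd hdc => ?_) le_sup_right)
    refine le_trans ?_ (le_sup_left : C ≤ C ⊔ H)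
    have h := hWd c hc hc1 d hd hdc
    rw [hWcV] at h
    exact le_inf (inf_le_left.trans hN1.le) h
  have hUC : ∀ b ∈ S.A, b ∉ zpowers c → S.U b ≤ C := by
    intro b hb hbc y hy
    have hb1 : b ≠ 1 := ne_one_of_not_mem hbc
    have hfix : S.U b ⊓ centralizer ({c} : Set Γ) = ⊥ := by
      rw [← S.U_inf_U_eq_bot hA1 hc hc1 hb hbc, inf_comm (S.U c)]
      exact le_antisymm (le_inf inf_le_left (le_inf (inf_le_left.trans (S.U_le b)) inf_le_right))
        (le_inf inf_le_left (inf_le_right.trans inf_le_right))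
    obtain ⟨h, hh, hyeq⟩ := exists_disp_eq (S.mem_normalizer_U hb hc) hfix hy
    have hmod : ∀ n ∈ H, y * n * y⁻¹ * n⁻¹ ∈ C := by
      intro n hn
      have hx : h * n * h⁻¹ ∈ C ⊔ H := by
        rw [hN0eq']; exact conj_mem_of_mem_normalizer (hGN hh.1) (hN1le hn.1)
      obtain ⟨z, hz, n', hn', e⟩ := (Coprime.mem_sup_of_le_normalizer hHnC).mp hx
      have hcn : c * n = n * c := (S.mem_U.mp hn.2).2.symm
      have hcn' : c * n' = n' * c := (S.mem_U.mp hn'.2).2.symm
      have e1 : y * n * y⁻¹ * n⁻¹ = h⁻¹ * (c * z * c⁻¹ * z⁻¹) * h := by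
        rw [← hyeq]
        calc h⁻¹ * (c * h * c⁻¹) * n * (h⁻¹ * (c * h * c⁻¹))⁻¹ * n⁻¹
            = h⁻¹ * c * h * (c⁻¹ * n * c) * h⁻¹ * c⁻¹ * h * n⁻¹ := by group
          _ = h⁻¹ * c * (h * n * h⁻¹) * c⁻¹ * h * n⁻¹ := by
              rw [show c⁻¹ * n * c = n by rw [mul_assoc, ← hcn, inv_mul_cancel_left]]; group
          _ = h⁻¹ * c * z * c⁻¹ * (c * n') * c⁻¹ * h * n⁻¹ := by rw [← e]; group
          _ = h⁻¹ * c * z * c⁻¹ * z⁻¹ * (z * n') * h * n⁻¹ := by rw [hcn']; group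
          _ = h⁻¹ * c * z * c⁻¹ * z⁻¹ * h := by rw [e]; group
          _ = h⁻¹ * (c * z * c⁻¹ * z⁻¹) * h := by group
      rw [e1]
      simpa using conj_mem_of_mem_normalizer (inv_mem (hGC hh.1))
        (mul_mem (conj_mem_of_mem_normalizer (hC.norm hc) hz) (inv_mem hz))
    let E := V ⊓ centralizer ({y} : Set Γ)
    have hle := S.commutator_le (W := V) (H := H) (E := E) hb hV.le (hN1.inf_U hc).le
      (hV.norm hb) ((hN1.inf_U hc).norm hb) (inf_le_left.trans hN1V) (hcopV _ inf_le_left)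
      inf_le_left
      (fun x hx => mem_normalizer_of_conj_mem fun w hw => by
        rwa [hVab x hx w hw.1, mul_inv_cancel_right])
      (fun n hn => mem_normalizer_of_conj_mem fun w hw => by
        have hwV : n * w * n⁻¹ ∈ V := conj_mem_of_mem_normalizer (hN1V hn.1) hw.1
        refine ⟨hwV, mem_centralizer_singleton_iff.mpr ?_⟩
        have hz := mem_centralizer_iff.mp (hmod n hn).2 _ hwV
        have hwy : w * y = y * w := mem_centralizer_singleton_iff.mp hw.2
        calc n * w * n⁻¹ * y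
            = n * w * n⁻¹ * (y * n * y⁻¹ * n⁻¹) * n * y * n⁻¹ := by group
          _ = (y * n * y⁻¹ * n⁻¹) * (n * w * n⁻¹) * n * y * n⁻¹ := by rw [hz]
          _ = y * n * y⁻¹ * (w * y) * n⁻¹ := by group
          _ = y * (n * w * n⁻¹) := by rw [hwy]; group)
      (mem_normalizer_of_conj_mem fun w hw => by
        refine ⟨conj_mem_of_mem_normalizer (hV.norm hb) hw.1,
          mem_centralizer_singleton_iff.mpr ?_⟩
        have hyb : Commute y b := (S.mem_U.mp hy).2
        have hwy : Commute w y := mem_centralizer_singleton_iff.mp hw.2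
        exact (((hyb.symm).mul_left hwy).mul_left hyb.symm.inv_left).eq)
      (hUbot hb hb1 hc (S.not_mem_symm hb hc1 hbc))
      (fun x hx => ⟨hx.1, mem_centralizer_singleton_iff.mpr (S.U_comm hb hb1 hx.2 hy)⟩)
    have hWc' : ⁅V, H⁆ = V := hWcV
    rw [hWc'] at hle
    exact ⟨hy.1, mem_centralizer_iff.mpr fun x hx =>
      mem_centralizer_singleton_iff.mp (hle hx).2⟩
  refine hnot ((commutator_mono ?_ ?_).trans
    (commutator_sup_le (C := C) (U := S.U c) ((S.U_le c).trans hGC)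
      (fun x hx y hy => S.U_comm hc hc1 hx hy))) <;>
  exact S.gen_line S.inv_G hc (fun b hb hbc => inf_le_right.trans ((hUC b hb hbc).trans le_sup_left))
    (inf_le_right.trans le_sup_right)

/-- The elements of `r`-power order of an abelian subgroup. -/
def primary (V : Subgroup Γ) (hVab : ∀ x ∈ V, ∀ y ∈ V, x * y = y * x) (r : ℕ) : Subgroup Γ where
  carrier := {x | x ∈ V ∧ ∃ k : ℕ, x ^ r ^ k = 1}
  one_mem' := ⟨one_mem V, 0, one_pow _⟩
  mul_mem' := by
    rintro x y ⟨hx, i, hi⟩ ⟨hy, j, hj⟩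
    refine ⟨mul_mem hx hy, i + j, ?_⟩
    rw [(show Commute x y from hVab x hx y hy).mul_pow, pow_add, pow_mul, hi, one_pow, one_mul,
      mul_comm, pow_mul, hj, one_pow]
  inv_mem' := by
    rintro x ⟨hx, i, hi⟩
    exact ⟨inv_mem hx, i, by rw [inv_pow, hi, inv_one]⟩

end Ctx

/-- If `G` is solvable and `A` fixes only `1` then `G'` is nilpotent. -/
theorem isNilpotent_commutator : ∀ (n : ℕ) {Γ : Type u} [Group Γ] [Finite Γ] (S : Ctx Γ),
    Nat.card S.G ≤ n → S.G ⊓ centralizer (S.A : Set Γ) = ⊥ → Group.IsSolvable S.G →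
    Group.IsNilpotent ↥(⁅S.G, S.G⁆) := by
  intro n
  induction n with
  | zero => intro Γ _ _ S hc; exact absurd hc (Nat.not_le.mpr Nat.card_pos)
  | succ n ih =>
    intro Γ _ _ S hc hA1 hsol
    by_cases hbot : S.G = ⊥
    · have : Subsingleton ↥(⁅S.G, S.G⁆) := by
        refine ⟨fun x y => Subtype.ext ?_⟩
        have hx := x.2
        have hy := y.2
        simp only [hbot, commutator_bot_left, mem_bot] at hx hy
        rw [hx, hy]
      infer_instance
    obtain ⟨V, ⟨hV, hGV, hVbot⟩, hVmin⟩ := Set.Finite.exists_minimal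
      (Set.toFinite {V : Subgroup Γ | S.Inv V ∧ S.G ≤ normalizer (V : Set Γ) ∧ V ≠ ⊥})
      ⟨S.G, S.inv_G, le_normalizer, hbot⟩
    have hmin : ∀ W : Subgroup Γ, S.Inv W → S.G ≤ normalizer (W : Set Γ) → W ≤ V →
        W = ⊥ ∨ W = V := fun W h1 h2 h3 =>
      or_iff_not_imp_left.mpr fun h4 => le_antisymm h3 (hVmin ⟨h1, h2, h4⟩ h3)
    have hVsol : Group.IsSolvable V := Coprime.isSolvable_of_le hV.le hsol
    have hV' : ⁅V, V⁆ = ⊥ := (hmin _ (hV.commutator hV)
      (fun g hg => normalizer_commutator ⟨hGV hg, hGV hg⟩)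
      (Coprime.commutator_lt_of_isSolvable hVsol hVbot).le).resolve_right
        (Coprime.commutator_lt_of_isSolvable hVsol hVbot).ne
    have hVab : ∀ x ∈ V, ∀ y ∈ V, x * y = y * x := fun x hx y hy => by
      have h := commutator_mem_commutator hx hy
      rw [hV', mem_bot, commutatorElement_eq_one_iff_mul_comm] at h
      exact h
    obtain ⟨r, hr, hrdvd⟩ := Nat.exists_prime_and_dvd
      (fun h : Nat.card V = 1 => hVbot (eq_bot_of_card_eq V h))
    have := Fact.mk hr
    have hconj : ∀ g ∈ normalizer (V : Set Γ),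
        g ∈ normalizer ((Ctx.primary V hVab r : Subgroup Γ) : Set Γ) := fun g hg =>
      mem_normalizer_of_conj_mem fun x ⟨hx, i, hi⟩ =>
        ⟨conj_mem_of_mem_normalizer hg hx, i, by rw [conj_pow, hi, mul_one, mul_inv_cancel]⟩
    have hVr : IsPGroup r V := by
      obtain ⟨⟨x, hxV⟩, hx⟩ := exists_prime_orderOf_dvd_card' r hrdvd
      rw [orderOf_mk] at hx
      have hR := (hmin (Ctx.primary V hVab r)
        ⟨fun y hy => hV.le hy.1, fun a ha => hconj a (hV.norm ha)⟩
        (fun g hg => hconj g (hGV hg)) (fun y hy => hy.1)).resolve_left fun h => by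
          have hm : x ∈ Ctx.primary V hVab r :=
            ⟨hxV, 1, by rw [pow_one, ← hx, pow_orderOf_eq_one]⟩
          rw [h, mem_bot] at hm
          rw [hm, orderOf_one] at hx
          exact hr.ne_one hx.symm
      intro y
      have hy : (y : Γ) ∈ Ctx.primary V hVab r := by rw [hR]; exact y.2
      obtain ⟨k, hk⟩ := hy.2
      exact ⟨k, Subtype.ext hk⟩
    have hcent := S.commutator_le_centralizer hA1 hsol hV hGV hVr hVab hVbot hmin
    have hnil : Group.IsNilpotent ↥(⁅(S.quot hV hGV).G, (S.quot hV hGV).G⁆) :=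
      ih (S.quot hV hGV) (Nat.lt_succ_iff.mp ((Ctx.qimg_card_lt hGV hV.le hVbot).trans_le hc))
        (S.quot_fixed hV hGV hA1)
        (Coprime.isSolvable_map _ (Group.isSolvable_of_isSolvable_injective
          (f := (subgroupOfEquivOfLe hGV).toMonoidHom) (subgroupOfEquivOfLe hGV).injective))
    have hDG : ⁅S.G, S.G⁆ ≤ S.G := Coprime.commutator_le_of_le_normalizer le_normalizer
    let ψ := (Ctx.qmap V).comp (inclusion (hDG.trans hGV))
    have hrange : ψ.range = ⁅(S.quot hV hGV).G, (S.quot hV hGV).G⁆ := by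
      rw [Ctx.qimg_range (hDG.trans hGV)]
      show _ = ⁅Ctx.qimg V S.G, Ctx.qimg V S.G⁆
      rw [← map_commutator]
      unfold Ctx.qimg
      congr 1
      apply map_injective (normalizer (V : Set Γ)).subtype_injective
      rw [map_commutator, map_subgroupOf_eq_of_le hGV,
        map_subgroupOf_eq_of_le (hDG.trans hGV)]
    have : Group.IsNilpotent ψ.range := by rw [hrange]; exact hnil
    refine Subgroup.isNilpotent_of_ker_le_center ψ.rangeRestrict ?_
    intro x hx
    rw [MonoidHom.ker_rangeRestrict, MonoidHom.mem_ker] at hx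
    have hxV := (Ctx.qmap_eq_one (hDG.trans hGV)).mp hx
    rw [mem_center_iff]
    intro y
    exact Subtype.ext (mem_centralizer_iff.mp (hcent y.2) x hxV).symm

end Cfsg.Agent.AbelianFixed
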