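import Cfsg.Agent.Lib.AbelianFixed.Nonabelian
import Cfsg.Agent.Lib.PLocal.ThompsonComplement
import Cfsg.Agent.Lib.PLocal.ThompsonSubgroup

/-!
If a noncyclic group of order `q²` acts on a finite `q'`-group so that the centralisers of its
nontrivial elements are abelian then the group is solvable.
-/

set_option autoImplicit false
set_option linter.unusedSectionVars false

namespace Cfsg.Agent.AbelianFixed

open Subgroup
open scoped Pointwise commutatorElement

universe u

variable {Γ : Type u} [Group Γ]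

theorem mem_normalizer_iSup [Finite Γ] {ι : Sort*} {f : ι → Subgroup Γ} {g : Γ}
    (h : ∀ i, g ∈ normalizer (f i : Set Γ)) :
    g ∈ normalizer ((⨆ i, f i : Subgroup Γ) : Set Γ) := by
  rw [← Coprime.conj_smul_eq_self_iff, Coprime.conj_smul_eq_map, Subgroup.map_iSup]
  exact iSup_congr fun i => Coprime.conj_smul_eq_self_iff.mpr (h i)

namespace Core

variable (S : Core Γ) [Finite Γ] {p : ℕ} [Fact p.Prime]

theorem max_unique {M M' : Subgroup Γ} (h : S.Max p M) (h' : S.Max p M') : M = M' :=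
  le_antisymm (h'.top M h.inv h.ne h.le) (h.top M' h'.inv h'.ne h'.le)

theorem max_eq_of_le {s : ℕ} [Fact s.Prime] {M M' : Subgroup Γ} (hM : S.Max p M)
    (hM' : S.Max s M') (h : S.P s ≤ M) : M' = M := by
  have h1 : M ≤ M' := hM'.top M hM.inv hM.ne h
  exact le_antisymm (hM.top M' hM'.inv hM'.ne (hM.le.trans h1)) h1

/-- Two maximal subgroups sharing a prime coincide. -/
theorem max_eq_of_inf_ne_bot {s : ℕ} [Fact s.Prime] {M M' : Subgroup Γ} (hM : S.Max p M)
    (hM' : S.Max s M') (h : S.P s ⊓ M ≠ ⊥) : M' = M := by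
  refine S.max_eq_of_le hM hM' ?_
  by_contra hnle
  set D := S.P s ⊓ M
  have hD : S.Inv D := (S.inv_P s).inf hM.inv.norm
  let W : Subgroup Γ := ⨆ r : {r : ℕ // r.Prime ∧ r ≠ s}, S.P r ⊓ ⁅M, M⁆
  have hpartM : ∀ r : {r : ℕ // r.Prime ∧ r ≠ s},
      M ≤ normalizer ((S.P r ⊓ ⁅M, M⁆ : Subgroup Γ) : Set Γ) := fun r => by
    have := Fact.mk r.2.1
    exact S.le_normalizer_part hM.inv hM.ne
  have hAW : S.A ≤ normalizer (W : Set Γ) := fun a ha => mem_normalizer_iSup fun r => by
    have := Fact.mk r.2.1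
    exact ((S.inv_P r).inf (S.inv_der hM.inv).norm).norm ha
  have hMW : M ≤ normalizer (W : Set Γ) := fun m hm => mem_normalizer_iSup fun r => hpartM r hm
  set D₀ := D ⊓ centralizer (W : Set Γ)
  have hD₀ : S.Inv D₀ := hD.inf (hAW.trans (normalizer_le_normalizer_centralizer W))
  by_cases hD₀0 : D₀ = ⊥
  · -- then every line meeting `D` forces the other lines of `P s` into `M`
    have key : ∀ c ∈ S.A, c ≠ 1 → D ⊓ S.U c ≠ ⊥ → ∀ L ∈ S.A, L ∉ zpowers c →
        S.P s ⊓ S.U L ≤ M := by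
      intro c hc hc1 hDc L hL hLc
      obtain ⟨r, hr⟩ : ∃ r : {r : ℕ // r.Prime ∧ r ≠ s},
          ¬ D ⊓ S.U c ≤ centralizer ((S.P r ⊓ ⁅M, M⁆ : Subgroup Γ) : Set Γ) := by
        by_contra hcon
        push Not at hcon
        refine hDc (le_bot_iff.mp (hD₀0 ▸ le_inf inf_le_left (le_centralizer_iff.mp ?_)))
        exact iSup_le fun r => le_centralizer_iff.mp (hcon r)
      have := Fact.mk r.2.1
      set Y := S.P r ⊓ ⁅M, M⁆
      have hY : S.Inv Y := (S.inv_P r).inf (S.inv_der hM.inv).norm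
      have hY0 : Y ≠ ⊥ := fun h' => hr (by
        intro x _
        rw [mem_centralizer_iff]
        intro y hy
        rw [SetLike.mem_coe, h', mem_bot] at hy
        simp [hy])
      have hYL : Y ⊓ S.U L ≠ ⊥ := fun h' => hr (S.le_centralizer hL hY
        (S.isSolvable_of_le_P inf_le_left) (hD.inf_U hc)
        ((inf_le_left.trans inf_le_right).trans (hpartM r))
        (S.coprime_of_ne r.2.2 inf_le_left (inf_le_left.trans inf_le_left))
        (S.inf_U_bot hc hc1 hL hLc inf_le_right) (h'.le.trans bot_le))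
      obtain ⟨Mr, hMr⟩ := S.exists_max (p := r) fun h' => hY0 (le_bot_iff.mp (h' ▸ inf_le_left))
      have h1 : M ≤ Mr := (S.le_Nz hM.inv.le (hpartM r)).trans (hMr.norm Y hY hY0 inf_le_left)
      have h2 : Mr ≤ M := hM.top Mr hMr.inv hMr.ne (hM.le.trans h1)
      refine inf_le_right.trans (le_trans ?_ h2)
      refine le_trans ?_ (hMr.norm _ (hY.inf_U hL) hYL (inf_le_left.trans inf_le_left))
      exact S.le_Nz (S.U_le L) (((S.U_le_centralizer hL (Ctx.ne_one_of_not_mem hLc)).trans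
        (centralizer_le inf_le_right)).trans (centralizer_le_normalizer _))
    obtain ⟨c, hc, hc1, hDc⟩ : ∃ c ∈ S.A, c ≠ 1 ∧ D ⊓ S.U c ≠ ⊥ := by
      by_contra hcon
      push Not at hcon
      exact h (le_bot_iff.mp (S.gen hD fun c hc hc1 => (hcon c hc hc1).le))
    obtain ⟨L, hL, hLc, hPL⟩ := S.exists_line hM'.not_le_U hc hc1
    have hDL : D ⊓ S.U L ≠ ⊥ := fun h' => hPL (le_bot_iff.mp (h' ▸
      le_inf (le_inf inf_le_left (key c hc hc1 hDc L hL hLc)) inf_le_right))
    refine hnle (S.gen (S.inv_P s) fun a ha ha1 => ?_)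
    by_cases hac : a ∈ zpowers c
    · refine key L hL (Ctx.ne_one_of_not_mem hLc) hDL a ha fun haL => hLc ?_
      exact (zpowers_le.mpr hac) (S.mem_zpowers_symm hL ha1 haL)
    · exact key c hc hc1 hDc a ha hac
  · have hMD : M ≤ normalizer (D₀ : Set Γ) := by
      refine S.le_of_normalizer_of_parts (p := s) hM.inv ?_ fun r hr hrs => ?_
      · exact le_normalizer_inf inf_le_right
          ((inf_le_left.trans hMW).trans (normalizer_le_normalizer_centralizer W))
      · refine le_trans ?_ ((centralizer_le (inf_le_right : D₀ ≤ _)).trans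
          (centralizer_le_normalizer _))
        exact (le_iSup (fun r : {r : ℕ // r.Prime ∧ r ≠ s} => S.P r ⊓ ⁅M, M⁆) ⟨r, hr, hrs⟩).trans
          (le_centralizer_iff.mp le_rfl)
    have h1 : M ≤ M' := (S.le_Nz hM.inv.le hMD).trans
      (hM'.norm D₀ hD₀ hD₀0 (inf_le_left.trans inf_le_left))
    exact hnle (hM'.le.trans (hM.top M' hM'.inv hM'.ne (hM.le.trans h1)))

/-- If two maximal subgroups differ they are nilpotent. -/
theorem isNilpotent_max {r : ℕ} [Fact r.Prime] {M Mr : Subgroup Γ} (hM : S.Max p M)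
    (hMr : S.Max r Mr) (hne : M ≠ Mr) (hPr : S.P r ≠ ⊥) : Group.IsNilpotent M := by
  obtain ⟨a, ha, ha1, hPa⟩ : ∃ a ∈ S.A, a ≠ 1 ∧ S.P r ⊓ S.U a ≠ ⊥ := by
    by_contra hcon
    push Not at hcon
    exact hPr (le_bot_iff.mp (S.gen (S.inv_P r) fun c hc hc1 => (hcon c hc hc1).le))
  have hUa : S.U a ≤ Mr := (S.le_Nz (S.U_le a) (((S.U_le_centralizer ha ha1).trans
    (centralizer_le inf_le_right)).trans (centralizer_le_normalizer _))).trans
    (hMr.norm _ ((S.inv_P r).inf_U ha) hPa inf_le_left)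
  have hbot : S.U a ⊓ M = ⊥ := by
    by_contra h
    obtain ⟨s, hs, hdvd⟩ := Nat.exists_prime_and_dvd
      (fun h1 : Nat.card ↥(S.U a ⊓ M) = 1 => h (eq_bot_of_card_eq _ h1))
    have := Fact.mk hs
    have hI : S.Inv (S.U a ⊓ M) := (S.inv_U ha).inf hM.inv.norm
    have hS' : S.P s ⊓ (S.U a ⊓ M) ≠ ⊥ := by
      intro h1
      have h2 := S.card_P_inf (p := s) hI
      rw [h1, Subgroup.card_bot] at h2
      exact absurd h2.symm (Nat.one_lt_pow
        (hs.factorization_pos_of_dvd Nat.card_pos.ne' hdvd).ne' hs.one_lt).ne'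
    obtain ⟨Ms, hMs⟩ := S.exists_max (p := s) fun h1 => hS' (by rw [h1, bot_inf_eq])
    refine hne ?_
    rw [← S.max_eq_of_inf_ne_bot hM hMs fun h1 => hS' (le_bot_iff.mp (h1 ▸
        inf_le_inf_left _ inf_le_right)),
      ← S.max_eq_of_inf_ne_bot hMr hMs fun h1 => hS' (le_bot_iff.mp (h1 ▸
        inf_le_inf_left _ (inf_le_left.trans hUa)))]
  let φ : MulAut M := normalizerMonoidHom M ⟨a, hM.inv.norm ha⟩
  refine Solvable.Thompson.isNilpotent_of_fixedPointFree φ S.hq (fun x hx => ?_) ?_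
  · have hx' : a * x * a⁻¹ = x := congrArg Subtype.val hx
    have hm : (x : Γ) ∈ S.U a ⊓ M :=
      ⟨S.mem_U.mpr ⟨hM.inv.le x.2, (mul_inv_eq_iff_eq_mul.mp hx').symm⟩, x.2⟩
    rw [hbot, mem_bot] at hm
    exact Subtype.ext hm
  · show (normalizerMonoidHom M ⟨a, hM.inv.norm ha⟩) ^ S.q = 1
    rw [← map_pow, show (⟨a, hM.inv.norm ha⟩ : normalizer (M : Set Γ)) ^ S.q = 1 from
      Subtype.ext (S.pow_q ha), map_one]

theorem hasNormalPComplement_of_le_max {M : Subgroup Γ} (hnil : Group.IsNilpotent M)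
    {K : Subgroup S.G} (h : K.map S.G.subtype ≤ M) : Cfsg.HasNormalPComplement p K := by
  have h1 : Group.IsNilpotent ↥(K.map S.G.subtype) := Cores.isNilpotent_to_le h hnil
  have : Group.IsNilpotent K :=
    Group.nilpotent_of_mulEquiv (equivMapOfInjective K _ S.G.subtype_injective).symm
  exact Solvable.Thompson.hasNormalPComplement_of_nilpotent

theorem contradiction {Γ : Type u} [Group Γ] [Finite Γ] (S : Core Γ) : False := by
  classical
  obtain ⟨p, hp, hp2, hpdvd⟩ : ∃ p : ℕ, p.Prime ∧ p ≠ 2 ∧ p ∣ Nat.card S.G := by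
    by_contra hcon
    push Not at hcon
    have := Fact.mk Nat.prime_two
    refine S.not_solvable (Coprime.isSolvable_of_isPGroup (p := 2) (IsPGroup.of_card
      (Nat.eq_prime_pow_of_unique_prime_dvd Nat.card_pos.ne' fun {d} hd hdvd => ?_)))
    by_contra h2
    exact hcon d hd h2 hdvd
  have := Fact.mk hp
  obtain ⟨M, hM⟩ := S.exists_max (p := p) (S.P_ne_bot hpdvd)
  obtain ⟨r, hr, hrM⟩ : ∃ r : ℕ, r.Prime ∧ ¬ S.P r ≤ M := by
    by_contra hcon
    push Not at hcon
    exact hM.ne (le_antisymm hM.inv.le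
      (S.le_of_parts S.inv_G fun r hr => inf_le_left.trans (hcon r hr)))
  have := Fact.mk hr
  have hPr : S.P r ≠ ⊥ := fun h => hrM (h.le.trans bot_le)
  obtain ⟨Mr, hMr⟩ := S.exists_max hPr
  have hne : M ≠ Mr := fun h => hrM (h ▸ hMr.le)
  have hnil : Group.IsNilpotent M := S.isNilpotent_max hM hMr hne hPr
  obtain ⟨Q, hQ⟩ := S.exists_sylow_G (p := p)
  -- the normalizers of `J(P)` and of `Z(P)` lie in `M`
  set J := Cfsg.thompsonSubgroupOf p (S.P p)
  have hJP : J ≤ S.P p := map_subtype_le _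
  have hJ : S.Inv J := ⟨hJP.trans (S.inv_P p).le, (S.inv_P p).norm.trans
    (PLocal.ThompsonSubgroup.normalizer_le_normalizer_thompsonSubgroupOf _)⟩
  have hJ0 : J ≠ ⊥ := by
    intro h
    refine PLocal.ThompsonSubgroup.thompsonSubgroup_ne_bot (G := S.P p) (p := p) ?_
      ((Subgroup.map_eq_bot_iff_of_injective _ (S.P p).subtype_injective).mp h)
    rw [S.card_P p]
    exact dvd_pow_self p (hp.factorization_pos_of_dvd Nat.card_pos.ne' hpdvd).ne'
  have h1 : Cfsg.HasNormalPComplement p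
      (normalizer (Cfsg.thompsonSubgroupOf p (Q : Subgroup S.G) : Set S.G)) := by
    refine S.hasNormalPComplement_of_le_max hnil (le_trans ?_ (hM.norm J hJ hJ0 hJP))
    refine le_inf (map_subtype_le _) ((le_normalizer_map _).trans ?_)
    rw [PLocal.ThompsonSubgroup.map_thompsonSubgroupOf S.G.subtype_injective, hQ]
  have hZ : S.Inv (S.P p ⊓ centralizer (S.P p : Set Γ)) :=
    (S.inv_P p).inf ((S.inv_P p).norm.trans (normalizer_le_normalizer_centralizer _))
  have hZ0 : S.P p ⊓ centralizer (S.P p : Set Γ) ≠ ⊥ :=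
    inf_centralizer_ne_bot (S.isPGroup_P p) le_rfl le_normalizer (S.P_ne_bot hpdvd)
  have h2 : Cfsg.HasNormalPComplement p
      (centralizer (PLocal.ThompsonComplement.Z (Q : Subgroup S.G) : Set S.G)) := by
    refine S.hasNormalPComplement_of_le_max hnil (le_trans ?_
      ((S.Cz_le_Nz _).trans (hM.norm _ hZ hZ0 inf_le_left)))
    rintro _ ⟨x, hx, rfl⟩
    refine ⟨x.2, mem_centralizer_iff.mpr fun z hz => ?_⟩
    obtain ⟨hzP, hzC⟩ := hz
    obtain ⟨y, hy, rfl⟩ := hQ.ge hzP
    have hyZ : y ∈ PLocal.ThompsonComplement.Z (Q : Subgroup S.G) :=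
      ⟨hy, mem_centralizer_iff.mpr fun w hw =>
        Subtype.ext (mem_centralizer_iff.mp hzC (w : Γ) (hQ.le ⟨w, hw, rfl⟩))⟩
    exact congrArg Subtype.val (mem_centralizer_iff.mp hx y hyZ)
  have hcompl := PLocal.ThompsonComplement.hasNormalPComplement_of_thompson hp2 Q h1 h2
  obtain ⟨k, hk⟩ :=
    Transfer.NormalPComplement.hasNormalPComplement_iff_pPrimeCore.mp hcompl
  set N := Cfsg.pPrimeCore p S.G
  have hNG : S.G ≤ normalizer ((N.map S.G.subtype : Subgroup Γ) : Set Γ) := fun g hg =>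
    mem_normalizer_of_conj_mem fun x hx => by
      obtain ⟨y, hy, rfl⟩ := hx
      exact ⟨(⟨g, hg⟩ : S.G) * y * (⟨g, hg⟩ : S.G)⁻¹,
        (inferInstance : N.Normal).conj_mem y hy _, rfl⟩
  have hNA : S.A ≤ normalizer ((N.map S.G.subtype : Subgroup Γ) : Set Γ) := fun a ha =>
    mem_normalizer_of_conj_mem fun x hx => by
      obtain ⟨y, hy, rfl⟩ := hx
      let e : MulAut S.G := normalizerMonoidHom S.G ⟨a, S.hAG ha⟩
      have h' : e y ∈ N := by
        show e y ∈ Cfsg.pPrimeCore p S.G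
        rw [← Cores.map_pPrimeCore_eq e p]
        exact ⟨y, hy, rfl⟩
      exact ⟨e y, h', rfl⟩
  rcases S.simple _ (map_subtype_le _) hNA hNG with h | h
  · rw [Subgroup.map_eq_bot_iff_of_injective _ S.G.subtype_injective] at h
    rw [h, index_bot] at hk
    exact S.not_solvable (Coprime.isSolvable_of_isPGroup (IsPGroup.of_card hk))
  · have hN : Nat.card N = Nat.card S.G := by
      conv_rhs => rw [← h]
      exact (Subgroup.card_subtype _ _).symm
    have hc := Cores.pPrimeCore_not_dvd (G := S.G) p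
    exact hc (hN ▸ hpdvd)

end Core

/-- The main theorem. -/
theorem isSolvable : ∀ (n : ℕ) {Γ : Type u} [Group Γ] [Finite Γ] (S : Ctx Γ),
    Nat.card S.G ≤ n → Group.IsSolvable S.G := by
  intro n
  induction n with
  | zero => intro Γ _ _ S hc; exact absurd hc (Nat.not_le.mpr Nat.card_pos)
  | succ n ih =>
    intro Γ _ _ S hc
    by_contra hns
    have hG0 : S.G ≠ ⊥ := fun h => hns (by
      rw [h]; exact Group.isSolvable_of_comm fun a b => Subsingleton.elim _ _)
    have hsolv : ∀ K : Subgroup Γ, S.Inv K → K ≠ S.G → Group.IsSolvable K := by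
      intro K hK hne
      refine ih (S.restrict hK) (Nat.lt_succ_iff.mp (lt_of_lt_of_le ?_ hc))
      exact lt_of_not_ge fun h => hne (eq_of_le_of_card_ge hK.le h)
    have hsimple : ∀ N : Subgroup Γ, S.Inv N → S.G ≤ normalizer (N : Set Γ) →
        N = ⊥ ∨ N = S.G := by
      intro N hN hGN
      by_contra hcon
      push Not at hcon
      refine hns (S.isSolvable_of_quot hGN hN.le (hsolv N hN hcon.2) (ih (S.quot hN hGN) ?_))
      exact Nat.lt_succ_iff.mp ((Ctx.qimg_card_lt hGN hN.le hcon.1).trans_le hc)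
    have hfix : S.G ⊓ centralizer (S.A : Set Γ) = ⊥ := by
      have hle : S.G ≤ centralizer ((S.G ⊓ centralizer (S.A : Set Γ) : Subgroup Γ) : Set Γ) :=
        S.gen S.inv_G fun a ha ha1 => inf_le_right.trans ((S.U_le_centralizer ha ha1).trans
          (centralizer_le (inf_le_inf_left _ (centralizer_le (Set.singleton_subset_iff.mpr ha)))))
      have hi : S.Inv (S.G ⊓ centralizer (S.A : Set Γ)) :=
        S.inv_G.inf (le_normalizer.trans (normalizer_le_normalizer_centralizer S.A))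
      refine (hsimple _ hi (hle.trans (centralizer_le_normalizer _))).resolve_right fun h => hns ?_
      exact Group.isSolvable_of_comm fun a b => Subtype.ext
        (mem_centralizer_iff.mp (hle b.2) a (by rw [h]; exact a.2))
    exact Core.contradiction
      { toCtx := S
        fixed := hfix
        solv := fun K h1 h2 => hsolv K ⟨h1, h2⟩
        simple := fun N h1 h2 => hsimple N ⟨h1, h2⟩
        not_solvable := hns }

end Cfsg.Agent.AbelianFixed
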