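import Cfsg.Agent.Lib.AbelianFixed.Abelian

/-!
The case of a nonabelian invariant Sylow `p`-subgroup `P`: the greatest proper invariant subgroup
containing it is `N(P')`. It contains all `p`-local normalizers if two independent lines of `A`
have their centralisers in it; the other possibility is shown to be contradictory.
-/

set_option autoImplicit false
set_option linter.unusedSectionVars false

namespace Cfsg.Agent.AbelianFixed

open Subgroup
open scoped Pointwise commutatorElement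

universe u

variable {Γ : Type u} [Group Γ]

/-- Commutativity of a subgroup, elementwise. -/
def IsAb (H : Subgroup Γ) : Prop := ∀ x ∈ H, ∀ y ∈ H, x * y = y * x

theorem IsAb.mono {H K : Subgroup Γ} (h : IsAb K) (hle : H ≤ K) : IsAb H :=
  fun x hx y hy => h x (hle hx) y (hle hy)

theorem IsAb.le_centralizer {H X : Subgroup Γ} (h : IsAb H) (hX : X ≤ H) :
    H ≤ centralizer (X : Set Γ) :=
  fun x hx => mem_centralizer_iff.mpr fun y hy => h y (hX hy) x hx

theorem commutator_ne_bot {H : Subgroup Γ} (h : ¬ IsAb H) : ⁅H, H⁆ ≠ ⊥ := by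
  intro hb
  refine h fun x hx y hy => ?_
  have hm := commutator_mem_commutator hx hy
  rw [hb, mem_bot, commutatorElement_eq_one_iff_mul_comm] at hm
  exact hm

theorem mem_centralizer_self_conj {T : Subgroup Γ} {z g : Γ}
    (hz : z ∈ centralizer (T : Set Γ)) (hg : g ∈ T) : g * z * g⁻¹ = z := by
  rw [mem_centralizer_iff.mp hz g hg, mul_inv_cancel_right]

/-- The second centre of `T`, inside the ambient group. -/
def secondCenter (T : Subgroup Γ) : Subgroup Γ where
  carrier := {y | y ∈ T ∧ ∀ t ∈ T, ⁅y, t⁆ ∈ centralizer (T : Set Γ)}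
  one_mem' := ⟨one_mem T, fun t _ => by rw [commutatorElement_one_left]; exact one_mem _⟩
  mul_mem' := by
    rintro x y ⟨hx, hx'⟩ ⟨hy, hy'⟩
    refine ⟨mul_mem hx hy, fun t ht => ?_⟩
    rw [commutatorElement_mul_left_eq_conj_mul, mem_centralizer_self_conj (hy' t ht) hx]
    exact mul_mem (hy' t ht) (hx' t ht)
  inv_mem' := by
    rintro x ⟨hx, hx'⟩
    refine ⟨inv_mem hx, fun t ht => ?_⟩
    have e : ⁅x⁻¹, t⁆ = x⁻¹ * ⁅x, t⁆⁻¹ * x⁻¹⁻¹ := by
      simp only [commutatorElement_def]; group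
    rw [e, mem_centralizer_self_conj (inv_mem (hx' t ht)) (inv_mem hx)]
    exact inv_mem (hx' t ht)

theorem secondCenter_le (T : Subgroup Γ) : secondCenter T ≤ T := fun _ h => h.1

theorem normalizer_le_normalizer_secondCenter [Finite Γ] (T : Subgroup Γ) :
    normalizer (T : Set Γ) ≤ normalizer (secondCenter T : Set Γ) := by
  intro g hg
  refine mem_normalizer_of_conj_mem fun y hy =>
    ⟨conj_mem_of_mem_normalizer hg hy.1, fun t ht => ?_⟩
  have ht' : g⁻¹ * t * g ∈ T := (mem_normalizer_iff''.mp hg t).mp ht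
  have e : ⁅g * y * g⁻¹, t⁆ = g * ⁅y, g⁻¹ * t * g⁆ * g⁻¹ := by
    simp only [commutatorElement_def]; group
  rw [e]
  exact conj_mem_of_mem_normalizer (normalizer_le_normalizer_centralizer T hg) (hy.2 _ ht')

/-- A nonabelian `p`-group has second centre larger than its centre. -/
theorem secondCenter_not_le [Finite Γ] {p : ℕ} [Fact p.Prime] {T : Subgroup Γ}
    (hT : IsPGroup p T) (hab : ¬ IsAb T) :
    ¬ secondCenter T ≤ centralizer (T : Set Γ) := by
  intro h
  have := hT.isNilpotent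
  have hne : (⊤ : Subgroup (T ⧸ center T)) ≠ ⊥ := by
    intro htb
    refine hab fun x hx y hy => ?_
    have hm : (QuotientGroup.mk (⟨y, hy⟩ : T) : T ⧸ center T) ∈ (⊥ : Subgroup (T ⧸ center T)) :=
      htb ▸ mem_top _
    rw [mem_bot, QuotientGroup.eq_one_iff] at hm
    exact congrArg Subtype.val (mem_center_iff.mp hm ⟨x, hx⟩)
  refine Cores.inf_center_ne_bot hne (le_bot_iff.mp fun c hc => ?_)
  induction c using QuotientGroup.induction_on with
  | _ y =>
    have hy : (y : Γ) ∈ secondCenter T := by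
      refine ⟨y.2, fun t ht => mem_centralizer_iff.mpr fun g hg => ?_⟩
      have hm : ⁅y, (⟨t, ht⟩ : T)⁆ ∈ center T := by
        rw [← QuotientGroup.eq_one_iff]
        show QuotientGroup.mk' (center T) _ = 1
        rw [map_commutatorElement, commutatorElement_eq_one_iff_mul_comm]
        exact (mem_center_iff.mp hc.2 _).symm
      exact congrArg Subtype.val (mem_center_iff.mp hm ⟨g, hg⟩)
    rw [mem_bot, QuotientGroup.eq_one_iff, mem_center_iff]
    exact fun g => Subtype.ext (mem_centralizer_iff.mp (h hy) g g.2)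

namespace Core

variable (S : Core Γ)

/-- The normalizer of `P'`. -/
noncomputable def Md (p : ℕ) : Subgroup Γ := S.Nz ⁅S.P p, S.P p⁆

/-- An invariant subgroup of `P` with normalizer outside `N(P')`. -/
structure Bad (p : ℕ) (X : Subgroup Γ) : Prop where
  inv : S.Inv X
  ne_bot : X ≠ ⊥
  le : X ≤ S.P p
  not_le : ¬ S.Nz X ≤ S.Md p

/-- The nonabelian case with all lines into `N(P')` on one line. -/
structure Single (p : ℕ) (b : Γ) : Prop where
  nab : ¬ IsAb (S.P p)
  mem : b ∈ S.A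
  ne_one : b ≠ 1
  lines : ∀ a ∈ S.A, a ≠ 1 → S.U a ≤ S.Md p → a ∈ zpowers b

variable [Finite Γ] {p : ℕ} [Fact p.Prime]

section

variable (hnab : ¬ IsAb (S.P p))

include hnab

theorem inv_Md : S.Inv (S.Md p) := S.inv_Nz (S.inv_der (S.inv_P p))

theorem Md_ne : S.Md p ≠ S.G :=
  S.Nz_ne (S.inv_der (S.inv_P p)) (commutator_ne_bot hnab) (S.ne_G_of_le_P (der_le _))

theorem P_le_Md : S.P p ≤ S.Md p := S.le_Nz (S.inv_P p).le (le_normalizer_der _)

/-- The main step: the derived group of `P ⊓ K` is normal in `K`. -/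
theorem le_normalizer_der_inf {K : Subgroup Γ} (hK : S.Inv K) (hne : K ≠ S.G) :
    K ≤ S.Nz ⁅S.P p ⊓ K, S.P p ⊓ K⁆ := by
  refine S.le_of_normalizer_of_parts (p := p) hK ?_ fun s hs hsp => ?_
  · exact S.le_Nz (inf_le_left.trans hK.le) fun g hg => normalizer_commutator ⟨hg.2, hg.2⟩
  · have := Fact.mk hs
    refine S.le_Nz (inf_le_right.trans ((der_le K).trans hK.le)) ?_
    refine (S.part_le_centralizer (r := p) hsp hK hne).trans ?_
    refine (centralizer_le ?_).trans (centralizer_le_normalizer _)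
    exact le_inf ((der_le _).trans inf_le_left) (commutator_mono inf_le_right inf_le_right)

theorem top_Md {K : Subgroup Γ} (hK : S.Inv K) (hne : K ≠ S.G) (hPK : S.P p ≤ K) :
    K ≤ S.Md p := by
  have h := S.le_normalizer_der_inf (p := p) hnab hK hne
  rwa [inf_eq_left.mpr hPK] at h

/-- Proper invariant subgroups meeting `P` in a nonabelian group lie in `N(P')`. -/
theorem le_Md_of_not_isAb {K : Subgroup Γ} (hK : S.Inv K) (hne : K ≠ S.G)
    (h : ¬ IsAb (S.P p ⊓ K)) : K ≤ S.Md p := by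
  suffices key : ∀ (n : ℕ) (K : Subgroup Γ), Nat.card (S.P p) ≤ Nat.card ↥(S.P p ⊓ K) + n →
      S.Inv K → K ≠ S.G → ¬ IsAb (S.P p ⊓ K) → K ≤ S.Md p from
    key (Nat.card (S.P p)) K (Nat.le_add_left _ _) hK hne h
  intro n
  induction n with
  | zero =>
    intro K hc hK hne _
    exact S.top_Md hnab hK hne (inf_eq_left.mp (eq_of_le_of_card_ge inf_le_left hc))
  | succ n ih =>
    intro K hc hK hne h
    by_cases hPK : S.P p ≤ K
    · exact S.top_Md hnab hK hne hPK
    have hD : S.Inv (S.P p ⊓ K) := (S.inv_P p).inf hK.norm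
    have hDlt : S.P p ⊓ K < S.P p :=
      lt_of_le_of_ne inf_le_left fun he => hPK (inf_eq_left.mp he)
    have hle := S.le_normalizer_der_inf (p := p) hnab hK hne
    set K₂ := S.Nz ⁅S.P p ⊓ K, S.P p ⊓ K⁆
    have hK₂ne : K₂ ≠ S.G := S.Nz_ne (S.inv_der hD) (commutator_ne_bot h)
      (S.ne_G_of_le_P ((der_le _).trans inf_le_left))
    have hlt : S.P p ⊓ K < S.P p ⊓ K₂ :=
      lt_of_lt_of_le (lt_inf_normalizer (S.isPGroup_P p) hDlt) (le_inf inf_le_left
        (S.le_Nz (inf_le_left.trans (S.inv_P p).le) fun g hg => normalizer_commutator ⟨hg.2, hg.2⟩))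
    have hcard : Nat.card ↥(S.P p ⊓ K) < Nat.card ↥(S.P p ⊓ K₂) :=
      lt_of_not_ge fun h' => hlt.ne (eq_of_le_of_card_ge hlt.le h')
    exact hle.trans (ih K₂ (by omega) (S.inv_Nz (S.inv_der hD)) hK₂ne
      fun h' => h (h'.mono hlt.le))

theorem Md_le_normalizer_part :
    S.Md p ≤ normalizer ((S.P p ⊓ ⁅S.Md p, S.Md p⁆ : Subgroup Γ) : Set Γ) :=
  S.le_normalizer_part (S.inv_Md hnab) (S.Md_ne hnab)

theorem part_ne_bot : S.P p ⊓ ⁅S.Md p, S.Md p⁆ ≠ ⊥ := fun h =>
  commutator_ne_bot hnab (le_bot_iff.mp (h ▸ le_inf (der_le _)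
    (commutator_mono (S.P_le_Md hnab) (S.P_le_Md hnab))))

variable {X : Subgroup Γ} (hX : S.Bad p X)

include hX

theorem bad_ne : S.Nz X ≠ S.G := S.Nz_ne hX.inv hX.ne_bot (S.ne_G_of_le_P hX.le)

theorem bad_isAb : IsAb (S.P p ⊓ S.Nz X) := by
  by_contra h
  exact hX.not_le (S.le_Md_of_not_isAb hnab (S.inv_Nz hX.inv) (S.bad_ne hnab hX) h)

theorem bad_le : X ≤ S.P p ⊓ S.Nz X := le_inf hX.le (S.le_Nz hX.inv.le le_normalizer)

theorem bad_centralizer :
    S.P p ⊓ centralizer ((S.P p ⊓ S.Nz X : Subgroup Γ) : Set Γ) ≤ S.P p ⊓ S.Nz X :=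
  fun x hx => ⟨hx.1, (S.inv_P p).le hx.1,
    centralizer_le_normalizer _ (centralizer_le (S.bad_le hnab hX) hx.2)⟩

theorem bad_center_le : S.P p ⊓ centralizer (S.P p : Set Γ) ≤ S.P p ⊓ S.Nz X :=
  (inf_le_inf_left _ (centralizer_le inf_le_left)).trans (S.bad_centralizer hnab hX)

theorem bad_normalizer_not_isAb :
    ¬ IsAb (S.P p ⊓ normalizer ((S.P p ⊓ S.Nz X : Subgroup Γ) : Set Γ)) := by
  intro h
  have hlt : S.P p ⊓ S.Nz X < S.P p :=
    lt_of_le_of_ne inf_le_left fun he => hnab (he ▸ S.bad_isAb hnab hX)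
  have h1 := lt_inf_normalizer (S.isPGroup_P p) hlt
  exact not_le_of_gt h1 ((le_inf inf_le_left (h.le_centralizer h1.le)).trans
    (S.bad_centralizer hnab hX))

theorem bad_normalizer_le : S.Nz (S.P p ⊓ S.Nz X) ≤ S.Md p := by
  have hD : S.Inv (S.P p ⊓ S.Nz X) := (S.inv_P p).inf (S.inv_Nz hX.inv).norm
  refine S.le_Md_of_not_isAb hnab (S.inv_Nz hD) (S.Nz_ne hD ?_ (S.ne_G_of_le_P inf_le_left))
    fun h => S.bad_normalizer_not_isAb hnab hX (h.mono ?_)
  · exact fun h => hX.ne_bot (le_bot_iff.mp (h ▸ S.bad_le hnab hX))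
  · exact le_inf inf_le_left (S.le_Nz (inf_le_left.trans (S.inv_P p).le) inf_le_right)

/-- `Nz X` lies in `N(P')` as soon as the `p'`-parts of its derived group do. -/
theorem bad_parts_not_le :
    ∃ s : ℕ, s.Prime ∧ s ≠ p ∧ ¬ S.P s ⊓ ⁅S.Nz X, S.Nz X⁆ ≤ S.Md p := by
  by_contra h
  push Not at h
  refine hX.not_le (S.le_of_normalizer_of_parts (p := p) (S.inv_Nz hX.inv) ?_ h)
  exact le_trans (le_inf (inf_le_left.trans inf_le_left) inf_le_right)
    (S.bad_normalizer_le hnab hX)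

end

/-- Two independent lines into `N(P')` give the conclusion. -/
theorem max_of_two_lines (hnab : ¬ IsAb (S.P p)) {a a' : Γ} (ha : a ∈ S.A) (ha1 : a ≠ 1)
    (ha' : a' ∈ S.A) (haa' : a' ∉ zpowers a) (hU : S.U a ≤ S.Md p) (hU' : S.U a' ≤ S.Md p) :
    S.Max p (S.Md p) := by
  refine ⟨S.inv_Md hnab, S.Md_ne hnab, S.P_le_Md hnab, fun K hK hne hPK => S.top_Md hnab hK hne hPK,
    ?_, fun c hc hc1 h => hnab fun x hx y hy => S.U_comm hc hc1 (h hx) (h hy)⟩
  intro X hXi hX0 hXP
  by_contra hnot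
  have hX : S.Bad p X := ⟨hXi, hX0, hXP, hnot⟩
  set K := S.Nz X
  have hK : S.Inv K := S.inv_Nz hXi
  have hne : K ≠ S.G := S.bad_ne hnab hX
  set O := S.P p ⊓ ⁅S.Md p, S.Md p⁆
  set Z := O ⊓ centralizer (S.P p : Set Γ)
  have hZ0 : Z ≠ ⊥ := inf_centralizer_ne_bot (S.isPGroup_P p) inf_le_left
    ((S.P_le_Md hnab).trans (S.Md_le_normalizer_part hnab)) (S.part_ne_bot hnab)
  have hZi : S.Inv Z := ((S.inv_P p).inf (S.inv_der (S.inv_Md hnab)).norm).inf
    ((S.inv_P p).norm.trans (normalizer_le_normalizer_centralizer _))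
  have hZP : Z ≤ S.P p := inf_le_left.trans inf_le_left
  have hZK : Z ≤ K :=
    ((le_inf hZP inf_le_right).trans (S.bad_center_le hnab hX)).trans inf_le_right
  obtain ⟨s, hs, hsp, hY⟩ := S.bad_parts_not_le hnab hX
  have := Fact.mk hs
  set Y := S.P s ⊓ ⁅K, K⁆
  have hYi : S.Inv Y := (S.inv_P s).inf (S.inv_der hK).norm
  refine hY ?_
  have hcent : Z ≤ centralizer (Y : Set Γ) := by
    refine S.gen hZi fun d hd hd1 => ?_
    obtain ⟨L, hL, hUL, hdL⟩ : ∃ L ∈ S.A, S.U L ≤ S.Md p ∧ L ∉ zpowers d := by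
      by_cases h : a ∈ zpowers d
      · refine ⟨a', ha', hU', fun h' => haa' ?_⟩
        exact (zpowers_le.mpr (S.mem_zpowers_symm hd ha1 h)) h'
      · exact ⟨a, ha, hU, h⟩
    refine S.le_centralizer hL hYi (S.isSolvable_of_le_P inf_le_left) (hZi.inf_U hd)
      ((inf_le_left.trans hZK).trans (S.le_normalizer_part hK hne))
      (S.coprime_of_ne hsp inf_le_left (inf_le_left.trans hZP))
      (S.inf_U_bot hd hd1 hL hdL inf_le_right) ?_
    intro y hy
    refine mem_centralizer_iff.mpr fun z hz => (commute_of_disjoint (H := Y) (K := O)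
      (S.inf_eq_bot hsp inf_le_left inf_le_left) hy.1 hz.1.1
      (S.Md_le_normalizer_part hnab (hUL hy.2)) (S.le_normalizer_part hK hne (hZK hz.1))).symm
  refine le_trans ?_ (S.top_Md hnab (S.inv_Cz hZi) (S.Cz_ne hZi hZ0 (S.ne_G_of_le_P hZP))
    (S.le_Cz (S.inv_P p).le (le_centralizer_iff.mp inf_le_right)))
  exact S.le_Cz hYi.le (le_centralizer_iff.mp hcent)

/-- Either the conclusion holds or all lines into `N(P')` are on one line. -/
theorem max_or_single (hP : S.P p ≠ ⊥) : (∃ M, S.Max p M) ∨ ∃ b, S.Single p b := by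
  by_cases hab : IsAb (S.P p)
  · exact Or.inl ⟨_, S.max_of_abelian hab hP⟩
  by_cases h : ∀ a ∈ S.A, a ≠ 1 → ¬ S.U a ≤ S.Md p
  · obtain ⟨b, hb, hb1⟩ : ∃ b ∈ S.A, b ∉ zpowers (1 : Γ) := S.exists_not_mem 1 (one_mem _)
    exact Or.inr ⟨b, hab, hb, Ctx.ne_one_of_not_mem hb1, fun a ha ha1 hU => absurd hU (h a ha ha1)⟩
  push Not at h
  obtain ⟨a, ha, ha1, hU⟩ := h
  by_cases h' : ∀ c ∈ S.A, c ≠ 1 → S.U c ≤ S.Md p → c ∈ zpowers a
  · exact Or.inr ⟨a, hab, ha, ha1, h'⟩
  push Not at h'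
  obtain ⟨c, hc, _, hUc, hca⟩ := h'
  exact Or.inl ⟨_, S.max_of_two_lines hab ha ha1 hc hca hU hUc⟩

section Single

variable {b : Γ} (hb : S.Single p b)

include hb

theorem isAb_centralizer {c : Γ} (hc : c ∈ S.A) (hcb : c ∉ zpowers b) {X : Subgroup Γ}
    (hX : S.Inv X) (hX0 : X ≠ ⊥) (hXle : X ≤ S.P p ⊓ S.U c) :
    IsAb (S.P p ⊓ centralizer (X : Set Γ)) := by
  have hc1 : c ≠ 1 := Ctx.ne_one_of_not_mem hcb
  by_contra h
  have hle : S.Cz X ≤ S.Md p := S.le_Md_of_not_isAb hb.nab (S.inv_Cz hX)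
    (S.Cz_ne hX hX0 (S.ne_G_of_le_P (hXle.trans inf_le_left)))
    fun h' => h (h'.mono (le_inf inf_le_left
      (S.le_Cz (inf_le_left.trans (S.inv_P p).le) inf_le_right)))
  exact hcb (hb.lines c hc hc1 ((S.le_Cz (S.U_le c)
    ((S.U_le_centralizer hc hc1).trans (centralizer_le (hXle.trans inf_le_right)))).trans hle))

/-- The centre of a nonabelian invariant subgroup of `P` lies in `U b`. -/
theorem center_le {T : Subgroup Γ} (hT : S.Inv T) (hTP : T ≤ S.P p) (hnab : ¬ IsAb T) :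
    T ⊓ centralizer (T : Set Γ) ≤ S.U b := by
  have hZ : S.Inv (T ⊓ centralizer (T : Set Γ)) :=
    hT.inf (hT.norm.trans (normalizer_le_normalizer_centralizer T))
  refine S.gen_line hZ hb.mem (fun c hc hcb => ?_) inf_le_right
  by_cases h : T ⊓ centralizer (T : Set Γ) ⊓ S.U c = ⊥
  · exact h.le.trans bot_le
  · refine absurd ((S.isAb_centralizer hb hc hcb (hZ.inf_U hc) h
      (inf_le_inf_right _ (inf_le_left.trans hTP))).mono (le_inf hTP ?_)) hnab
    exact le_centralizer_iff.mp (inf_le_left.trans inf_le_right)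

theorem secondCenter_inf_le {T : Subgroup Γ} (hT : S.Inv T) (hTP : T ≤ S.P p)
    (hnab : ¬ IsAb T) :
    secondCenter T ⊓ S.U b ≤ centralizer (T : Set Γ) := by
  rintro y ⟨hy, hyU⟩
  rw [mem_centralizer_iff]
  intro t ht
  have hZU := S.center_le hb hT hTP hnab
  have hby : b * y = y * b := (S.mem_U.mp hyU).2.symm
  have hyt : ∀ t ∈ T, ⁅y, t⁆ * b = b * ⁅y, t⁆ := by
    intro t ht
    have hyT := hy.1
    have hmem : ⁅y, t⁆ ∈ T ⊓ centralizer (T : Set Γ) :=
      ⟨T.mul_mem (T.mul_mem (T.mul_mem hyT ht) (T.inv_mem hyT)) (T.inv_mem ht), hy.2 t ht⟩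
    exact (S.mem_U.mp (hZU hmem)).2
  let E := T ⊓ centralizer ({y} : Set Γ)
  have hfix : t⁻¹ * (b * t * b⁻¹) ∈ E := by
    have hbt : b * t * b⁻¹ ∈ T := conj_mem_of_mem_normalizer (hT.norm hb.mem) ht
    refine ⟨T.mul_mem (T.inv_mem ht) hbt, mem_centralizer_singleton_iff.mpr ?_⟩
    have e2 : ⁅y, b * t * b⁻¹⁆ = ⁅y, t⁆ := by
      calc ⁅y, b * t * b⁻¹⁆
          = y * b * t * (b⁻¹ * y⁻¹ * b) * t⁻¹ * b⁻¹ := by rw [commutatorElement_def]; group
        _ = y * b * t * ((y * b)⁻¹ * b) * t⁻¹ * b⁻¹ := by group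
        _ = (b * y) * t * ((b * y)⁻¹ * b) * t⁻¹ * b⁻¹ := by rw [hby]
        _ = b * ⁅y, t⁆ * b⁻¹ := by rw [commutatorElement_def]; group
        _ = ⁅y, t⁆ := by rw [← hyt t ht, mul_inv_cancel_right]
    rw [commutatorElement_def, commutatorElement_def] at e2
    calc t⁻¹ * (b * t * b⁻¹) * y
        = t⁻¹ * (y * (b * t * b⁻¹) * y⁻¹ * (b * t * b⁻¹)⁻¹)⁻¹ * y * (b * t * b⁻¹) := by group
      _ = t⁻¹ * (y * t * y⁻¹ * t⁻¹)⁻¹ * y * (b * t * b⁻¹) := by rw [e2]
      _ = y * (t⁻¹ * (b * t * b⁻¹)) := by group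
  obtain ⟨e, he, hte⟩ := S.lift hb.mem (E := E) (inf_le_left.trans hT.le)
    (inf_normalizer_le_normalizer_inf ⟨hT.norm hb.mem,
      le_normalizer (mem_centralizer_singleton_iff.mpr hby)⟩)
    (hT.le ht) hfix
  have h1 : Commute (t * e) y := S.U_comm hb.mem hb.ne_one hte hyU
  have h2 : Commute e y := mem_centralizer_singleton_iff.mp he.2
  have h3 := h1.mul_left h2.inv_left
  rw [mul_inv_cancel_right] at h3
  exact h3.eq

/-- An invariant `p'`-subgroup of `N(P') ⊓ U L`, `L` off the line of `b`, centralises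
`P ⊓ N(P')'`. -/
theorem part_le_centralizer_of_single {L : Γ} (hL : L ∈ S.A) (hLb : L ∉ zpowers b) {s : ℕ}
    [Fact s.Prime] (hsp : s ≠ p) {H : Subgroup Γ} (hH : S.Inv H) (hHs : H ≤ S.P s)
    (hHM : H ≤ S.Md p) (hHL : H ≤ S.U L) :
    H ≤ centralizer ((S.P p ⊓ ⁅S.Md p, S.Md p⁆ : Subgroup Γ) : Set Γ) := by
  have hMn := S.Md_le_normalizer_part hb.nab
  set O := S.P p ⊓ ⁅S.Md p, S.Md p⁆
  have hO : S.Inv O := (S.inv_P p).inf (S.inv_der (S.inv_Md hb.nab)).norm
  have hOP : O ≤ S.P p := inf_le_left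
  have hfix : H ⊓ S.U b = ⊥ := S.inf_U_bot' hb.mem hb.ne_one hL hLb hHL
  have hHO : H ≤ normalizer (O : Set Γ) := hHM.trans hMn
  have hcop : (Nat.card H).Coprime (Nat.card O) := S.coprime_of_ne hsp hHs hOP
  set T := ⁅O, H⁆
  have hT : S.Inv T := hO.commutator hH
  have hTO : T ≤ O := Coprime.commutator_le_of_le_normalizer hHO
  have hTP : T ≤ S.P p := hTO.trans hOP
  have hHT : H ≤ normalizer (T : Set Γ) := normalizer_commutator_ge_right O H
  have hTT : ⁅T, H⁆ = T :=
    Coprime.commutator_commutator_eq hHO hcop (Or.inr (S.isSolvable_of_le_P hOP))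
  by_cases hT0 : T = ⊥
  · exact Coprime.commutator_eq_bot_iff_le_centralizer'.mp hT0
  exfalso
  by_cases hTab : IsAb T
  · have hTc : IsMulCommutative T := ⟨⟨fun x y => Subtype.ext (hTab x x.2 y y.2)⟩⟩
    have hC : T ⊓ centralizer (H : Set Γ) = ⊥ := by
      have h := Coprime.inf_centralizer_inf_commutator (A := H) (V := T) hHT
        (hcop.coprime_dvd_right (card_dvd_of_le hTO))
      rwa [hTT, inf_eq_left.mpr inf_le_left] at h
    by_cases hOab : IsAb O
    · have hder : ⁅S.Md p, S.Md p⁆ ≤ centralizer (O : Set Γ) := by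
        refine S.le_of_parts (S.inv_der (S.inv_Md hb.nab)) fun r hr => ?_
        have := Fact.mk hr
        by_cases hrp : r = p
        · subst hrp; exact hOab.le_centralizer le_rfl
        · exact S.part_le_centralizer hrp (S.inv_Md hb.nab) (S.Md_ne hb.nab)
      have hMT : S.Md p ≤ normalizer (T : Set Γ) := fun g hg =>
        mem_normalizer_commutator (hMn hg) hHO fun h hh =>
          hder (commutator_mem_commutator hg (hHM hh))
      set W := T ⊓ centralizer (S.P p : Set Γ)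
      have hW0 : W ≠ ⊥ := inf_centralizer_ne_bot (S.isPGroup_P p) hTP
        ((S.P_le_Md hb.nab).trans hMT) hT0
      have hWU : W ≤ S.U b :=
        (inf_le_inf_right _ hTP).trans (S.center_le hb (S.inv_P p) le_rfl hb.nab)
      have hMW : S.Md p ≤ S.Md p ⊓ normalizer (W : Set Γ) := by
        refine S.le_of_normalizer_of_parts (p := p) (S.inv_Md hb.nab) ?_ fun r hr hrp => ?_
        · rw [inf_eq_left.mpr (S.P_le_Md hb.nab)]
          exact le_inf inf_le_left (le_normalizer_inf (inf_le_left.trans hMT)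
            (inf_le_right.trans (normalizer_le_normalizer_centralizer _)))
        · refine le_inf (inf_le_right.trans (der_le _)) ?_
          exact ((inf_le_right.trans hder).trans
            (centralizer_le (inf_le_left.trans hTO))).trans (centralizer_le_normalizer _)
      have hHW : H ≤ centralizer (W : Set Γ) :=
        S.le_centralizer_fixed hWU (hH.norm hb.mem) (hHM.trans (hMW.trans inf_le_right)) hH.le hfix
      exact hW0 (le_bot_iff.mp (hC ▸ le_inf inf_le_left (le_centralizer_iff.mp hHW)))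
    · have hW0 : T ⊓ centralizer (O : Set Γ) ≠ ⊥ := inf_centralizer_ne_bot
        ((S.isPGroup_P p).to_le hOP) hTO (normalizer_commutator_ge_left O H) hT0
      have hHZ : H ≤ centralizer ((O ⊓ centralizer (O : Set Γ) : Subgroup Γ) : Set Γ) :=
        S.le_centralizer_fixed (S.center_le hb hO hOP hOab) (hH.norm hb.mem)
          (le_normalizer_inf hHO (hHO.trans (normalizer_le_normalizer_centralizer O))) hH.le hfix
      exact hW0 (le_bot_iff.mp (hC ▸ le_inf inf_le_left
        (le_centralizer_iff.mp (hHZ.trans (centralizer_le (inf_le_inf_right _ hTO))))))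
  · set Z := T ⊓ centralizer (T : Set Γ)
    have hZU : Z ≤ S.U b := S.center_le hb hT hTP hTab
    have hHZ : H ≤ centralizer (Z : Set Γ) :=
      S.le_centralizer_fixed hZU (hH.norm hb.mem)
        (le_normalizer_inf hHT (hHT.trans (normalizer_le_normalizer_centralizer T))) hH.le hfix
    have hHY : H ≤ normalizer (secondCenter T : Set Γ) :=
      hHT.trans (normalizer_le_normalizer_secondCenter T)
    have hY : S.Inv (secondCenter T) := ⟨(secondCenter_le T).trans hT.le,
      hT.norm.trans (normalizer_le_normalizer_secondCenter T)⟩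
    have hHcY : H ≤ centralizer (secondCenter T : Set Γ) := by
      refine S.le_centralizer hb.mem hY (S.isSolvable_of_le_P ((secondCenter_le T).trans hTP))
        hH hHY (hcop.coprime_dvd_right (card_dvd_of_le ((secondCenter_le T).trans hTO))).symm hfix ?_
      exact (le_inf (inf_le_left.trans (secondCenter_le T))
        (S.secondCenter_inf_le hb hT hTP hTab)).trans (le_centralizer_iff.mp hHZ)
    refine secondCenter_not_le ((S.isPGroup_P p).to_le hTP) hTab fun y hy => ?_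
    have hle : ⁅T, H⁆ ≤ centralizer ({y} : Set Γ) := by
      rw [Subgroup.commutator_le]
      intro t ht h hh
      rw [mem_centralizer_singleton_iff]
      have hm : h * t⁻¹ * h⁻¹ ∈ T := conj_mem_of_mem_normalizer (hHT hh) (T.inv_mem ht)
      have hyh : y * h = h * y := mem_centralizer_iff.mp (hHcY hh) y hy
      have hzT : ∀ u ∈ T, ⁅y, u⁆ ∈ Z := fun u hu =>
        ⟨T.mul_mem (T.mul_mem (T.mul_mem hy.1 hu) (T.inv_mem hy.1)) (T.inv_mem hu), hy.2 u hu⟩
      have hz : h * ⁅y, t⁻¹⁆ * h⁻¹ = ⁅y, t⁻¹⁆ := by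
        rw [← mem_centralizer_iff.mp (hHZ hh) _ (hzT _ (T.inv_mem ht)), mul_inv_cancel_right]
      have e1 : ⁅y, h * t⁻¹ * h⁻¹⁆ = ⁅y, t⁻¹⁆ := by
        calc ⁅y, h * t⁻¹ * h⁻¹⁆
            = y * h * t⁻¹ * (h⁻¹ * y⁻¹ * h) * t * h⁻¹ := by rw [commutatorElement_def]; group
          _ = y * h * t⁻¹ * ((y * h)⁻¹ * h) * t * h⁻¹ := by group
          _ = (h * y) * t⁻¹ * ((h * y)⁻¹ * h) * t * h⁻¹ := by rw [hyh]
          _ = h * ⁅y, t⁻¹⁆ * h⁻¹ := by rw [commutatorElement_def]; group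
          _ = ⁅y, t⁻¹⁆ := hz
      have e2 : ⁅y, t * (h * t⁻¹ * h⁻¹)⁆ = 1 := by
        rw [commutatorElement_mul_right_eq_mul_conj, e1, commutatorElement_def,
          commutatorElement_def]
        group
      rw [commutatorElement_eq_one_iff_mul_comm] at e2
      rw [show ⁅t, h⁆ = t * (h * t⁻¹ * h⁻¹) by rw [commutatorElement_def]; group]
      exact e2.symm
    rw [hTT] at hle
    rw [mem_centralizer_iff]
    exact fun u hu => mem_centralizer_singleton_iff.mp (hle hu)

/-- For a bad `X` some line off that of `b` moves out of `P ⊓ N(X)`, and then meets it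
trivially. -/
theorem exists_line_of_bad {X : Subgroup Γ} (hX : S.Bad p X) :
    ∃ e ∈ S.A, e ∉ zpowers b ∧ S.P p ⊓ S.Nz X ⊓ S.U e = ⊥ ∧
      ¬ S.P p ⊓ S.U e ≤ S.P p ⊓ S.Nz X := by
  have hDab : IsAb (S.P p ⊓ S.Nz X) := S.bad_isAb hb.nab hX
  set D := S.P p ⊓ S.Nz X
  have hD : S.Inv D := (S.inv_P p).inf (S.inv_Nz hX.inv).norm
  obtain ⟨e, he, heb, hePD⟩ : ∃ e ∈ S.A, e ∉ zpowers b ∧ ¬ S.P p ⊓ S.U e ≤ D := by
    by_contra hcon
    push Not at hcon
    set N₁ := S.P p ⊓ normalizer (D : Set Γ)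
    have hN₁ : S.Inv N₁ := (S.inv_P p).inf (hD.norm.trans le_normalizer)
    have hN₁P : N₁ ≤ S.P p := inf_le_left
    have hN₁ab : ¬ IsAb N₁ := S.bad_normalizer_not_isAb hb.nab hX
    have hZU := S.center_le hb hN₁ hN₁P hN₁ab
    have hY : S.Inv (secondCenter N₁) := ⟨(secondCenter_le _).trans hN₁.le,
      hN₁.norm.trans (normalizer_le_normalizer_secondCenter _)⟩
    refine secondCenter_not_le ((S.isPGroup_P p).to_le hN₁P) hN₁ab
      (S.gen_line hY hb.mem (fun c hc hcb => ?_) (S.secondCenter_inf_le hb hN₁ hN₁P hN₁ab))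
    intro y hy
    have hyD : y ∈ D := hcon c hc hcb ⟨hN₁P hy.1.1, hy.2⟩
    have hcent : N₁ ≤ centralizer ({y} : Set Γ) := by
      refine S.gen_line hN₁ hb.mem (fun c' hc' hc'b x hx => ?_) ?_
      · exact mem_centralizer_singleton_iff.mpr
          (hDab x (hcon c' hc' hc'b ⟨hN₁P hx.1, hx.2⟩) y hyD)
      · intro n hn
        have hbY : b ∈ normalizer ((secondCenter N₁ ⊓ S.U c : Subgroup Γ) : Set Γ) :=
          (hY.inf_U hc).norm hb.mem
        have hfix : (secondCenter N₁ ⊓ S.U c) ⊓ centralizer ({b} : Set Γ) = ⊥ := by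
          refine le_bot_iff.mp ((le_inf (inf_le_left : _ ≤ secondCenter N₁ ⊓ S.U c) ?_).trans
            (S.inf_U_bot' hb.mem hb.ne_one hc hcb inf_le_right).le)
          exact le_inf (inf_le_left.trans (hY.inf_U hc).le) inf_le_right
        obtain ⟨y', hy', hyeq⟩ := exists_disp_eq hbY hfix hy
        have hbn : b * n = n * b := (S.mem_U.mp hn.2).2.symm
        have hm : ⁅y', n⁆ ∈ N₁ ⊓ centralizer (N₁ : Set Γ) :=
          ⟨N₁.mul_mem (N₁.mul_mem (N₁.mul_mem hy'.1.1 hn.1) (N₁.inv_mem hy'.1.1))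
            (N₁.inv_mem hn.1), hy'.1.2 n hn.1⟩
        have hz : b * ⁅y', n⁆ * b⁻¹ = ⁅y', n⁆ := by
          rw [← (S.mem_U.mp (hZU hm)).2, mul_inv_cancel_right]
        have e1 : ⁅b * y' * b⁻¹, n⁆ = ⁅y', n⁆ := by
          calc ⁅b * y' * b⁻¹, n⁆ = b * y' * (b⁻¹ * n * b) * y'⁻¹ * b⁻¹ * n⁻¹ := by
                rw [commutatorElement_def]; group
            _ = b * y' * n * y'⁻¹ * (b⁻¹ * n⁻¹) := by
                rw [show b⁻¹ * n * b = n by rw [mul_assoc, ← hbn, inv_mul_cancel_left]]; group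
            _ = b * y' * n * y'⁻¹ * (n⁻¹ * b⁻¹) := by rw [← mul_inv_rev, ← hbn, mul_inv_rev]
            _ = b * ⁅y', n⁆ * b⁻¹ := by rw [commutatorElement_def]; group
            _ = ⁅y', n⁆ := hz
        have e2 : ⁅y, n⁆ = 1 := by
          rw [← hyeq, commutatorElement_mul_left_eq_conj_mul, e1,
            mem_centralizer_self_conj (hy'.1.2 n hn.1) (N₁.inv_mem hy'.1.1)]
          have e3 : ⁅y'⁻¹, n⁆ = y'⁻¹ * ⁅y', n⁆⁻¹ * y'⁻¹⁻¹ := by
            simp only [commutatorElement_def]; group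
          rw [e3, mem_centralizer_self_conj (inv_mem (hy'.1.2 n hn.1)) (N₁.inv_mem hy'.1.1),
            mul_inv_cancel]
        rw [commutatorElement_eq_one_iff_mul_comm] at e2
        exact mem_centralizer_singleton_iff.mpr e2.symm
    refine mem_centralizer_iff.mpr fun u hu => ?_
    exact mem_centralizer_singleton_iff.mp (hcent hu)
  refine ⟨e, he, heb, ?_, hePD⟩
  by_contra hDe
  have h := S.isAb_centralizer hb he heb (hD.inf_U he) hDe (inf_le_inf_right _ inf_le_left)
  refine hePD ((le_inf inf_le_left ?_).trans (S.bad_centralizer hb.nab hX))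
  refine (le_inf inf_le_left ?_).trans (h.le_centralizer (le_inf inf_le_left ?_))
  · exact (inf_le_right.trans (S.U_le_centralizer he (Ctx.ne_one_of_not_mem heb))).trans
      (centralizer_le inf_le_right)
  · exact (hDab.le_centralizer le_rfl).trans (centralizer_le inf_le_left)

/-- The normalizer of a bad `X` centralises it. -/
theorem bad_centralised {X : Subgroup Γ} (hX : S.Bad p X) :
    S.Nz X ≤ centralizer (X : Set Γ) := by
  obtain ⟨e, he, heb, hDe, -⟩ := S.exists_line_of_bad hb hX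
  have hDab : IsAb (S.P p ⊓ S.Nz X) := S.bad_isAb hb.nab hX
  have hK : S.Inv (S.Nz X) := S.inv_Nz hX.inv
  set D := S.P p ⊓ S.Nz X
  have hD : S.Inv D := (S.inv_P p).inf hK.norm
  set KN := S.Nz X ⊓ normalizer (D : Set Γ)
  have hKN : S.Inv KN := hK.inf (hD.norm.trans le_normalizer)
  have hKNM : KN ≤ S.Md p := (le_inf (inf_le_left.trans inf_le_left) inf_le_right).trans
    (S.bad_normalizer_le hb.nab hX)
  have hcent : KN ≤ centralizer (D : Set Γ) := by
    refine S.gen hKN fun L hL hL1 => S.le_of_parts (hKN.inf_U hL) fun r hr => ?_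
    have := Fact.mk hr
    by_cases hrp : r = p
    · subst hrp
      exact (le_inf inf_le_left (inf_le_right.trans (inf_le_left.trans inf_le_left))).trans
        (hDab.le_centralizer le_rfl)
    set H := S.P r ⊓ (KN ⊓ S.U L)
    have hH : S.Inv H := (S.inv_P r).inf (hKN.inf_U hL).norm
    have hHU : H ≤ S.U L := inf_le_right.trans inf_le_right
    have hHN : H ≤ KN := inf_le_right.trans inf_le_left
    have hHD : H ≤ normalizer (D : Set Γ) := hHN.trans inf_le_right
    have hcop : (Nat.card D).Coprime (Nat.card H) :=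
      S.coprime_of_ne (Ne.symm hrp) inf_le_left inf_le_left
    by_cases hLe : L ∈ zpowers e
    · have hLb : L ∉ zpowers b := fun h =>
        heb ((zpowers_le.mpr h) (S.mem_zpowers_symm he hL1 hLe))
      have hHO := S.part_le_centralizer_of_single hb hL hLb hrp hH inf_le_left (hHN.trans hKNM) hHU
      refine Coprime.le_centralizer_of_series hHD hcop.symm
        (Or.inr (S.isSolvable_of_le_P inf_le_left)) hHO ?_
      exact le_inf ((Coprime.commutator_le_of_le_normalizer hHD).trans inf_le_left)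
        (commutator_mono (inf_le_left.trans (S.P_le_Md hb.nab)) (hHN.trans hKNM))
    · exact S.le_centralizer he hD (S.isSolvable_of_le_P inf_le_left) hH hHD hcop
        (S.inf_U_bot' he (Ctx.ne_one_of_not_mem heb) hL hLe hHU) (hDe.le.trans bot_le)
  refine S.le_of_normalizer_of_parts (p := p) hK
    (hcent.trans (centralizer_le (S.bad_le hb.nab hX))) fun s hs hsp => ?_
  have := Fact.mk hs
  intro y hy
  refine mem_centralizer_iff.mpr fun x hx => ?_
  exact (commute_of_disjoint (S.inf_eq_bot hsp inf_le_left hX.le) hy hx (der_le _ hy.2).2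
    (S.le_normalizer_part hK (S.bad_ne hb.nab hX) (S.bad_le hb.nab hX hx).2)).symm

/-- All lines into `N(P')` cannot lie on one line. -/
theorem single_false : False := by
  obtain ⟨c, hc, hcb, hPc⟩ := S.exists_line (p := p)
    (fun a ha ha1 h => hb.nab fun x hx y hy => S.U_comm ha ha1 (h hx) (h hy)) hb.mem hb.ne_one
  have hc1 : c ≠ 1 := Ctx.ne_one_of_not_mem hcb
  set X := S.P p ⊓ S.U c
  have hXi : S.Inv X := (S.inv_P p).inf_U hc
  have hUc : S.U c ≤ S.Nz X := S.le_Nz (S.U_le c) (((S.U_le_centralizer hc hc1).trans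
    (centralizer_le inf_le_right)).trans (centralizer_le_normalizer _))
  have hX : S.Bad p X := ⟨hXi, hPc, inf_le_left, fun h => hcb (hb.lines c hc hc1 (hUc.trans h))⟩
  set K := S.Nz X
  have hK : S.Inv K := S.inv_Nz hXi
  have hne : K ≠ S.G := S.bad_ne hb.nab hX
  obtain ⟨s, hs, hsp, hbadY⟩ := S.bad_parts_not_le hb.nab hX
  have := Fact.mk hs
  set Y := S.P s ⊓ ⁅K, K⁆
  have hY : S.Inv Y := (S.inv_P s).inf (S.inv_der hK).norm
  have hY0 : Y ≠ ⊥ := fun h => hbadY (h.le.trans bot_le)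
  have hKY : K ≤ normalizer (Y : Set Γ) := S.le_normalizer_part hK hne
  set Z := S.P p ⊓ centralizer (S.P p : Set Γ)
  have hZ : S.Inv Z :=
    (S.inv_P p).inf ((S.inv_P p).norm.trans (normalizer_le_normalizer_centralizer _))
  have hZ0 : Z ≠ ⊥ := inf_centralizer_ne_bot (S.isPGroup_P p) le_rfl le_normalizer
    fun h => hb.nab (by rw [h]; intro x hx y hy; rw [mem_bot] at hx hy; rw [hx, hy])
  have hZK : Z ≤ K := (S.bad_center_le hb.nab hX).trans inf_le_right
  have hZU : Z ≤ S.U b := S.center_le hb (S.inv_P p) le_rfl hb.nab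
  have hZY : ¬ Z ≤ centralizer (Y : Set Γ) := fun h => hbadY <|
    (S.le_Cz hY.le (le_centralizer_iff.mp h)).trans (S.top_Md hb.nab (S.inv_Cz hZ)
      (S.Cz_ne hZ hZ0 (S.ne_G_of_le_P inf_le_left))
      (S.le_Cz (S.inv_P p).le (le_centralizer_iff.mp inf_le_right)))
  obtain ⟨e, he, heb, -, hePD⟩ := S.exists_line_of_bad hb hX
  have he1 : e ≠ 1 := Ctx.ne_one_of_not_mem heb
  rcases S.max_or_single (p := s) (fun h => hY0 (le_bot_iff.mp (h ▸ inf_le_left))) with
    ⟨M, hM⟩ | ⟨b', hb'⟩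
  · have hKM : K ≤ M := (S.le_Nz hK.le hKY).trans (hM.norm Y hY hY0 inf_le_left)
    have hYe : Y ⊓ S.U e ≠ ⊥ := fun h => hZY
      (S.le_centralizer he hY (S.isSolvable_of_le_P inf_le_left) hZ (hZK.trans hKY)
        (S.coprime_of_ne hsp inf_le_left inf_le_left)
        (S.inf_U_bot hb.mem hb.ne_one he heb hZU) (h.le.trans bot_le))
    have hUe : S.U e ≤ M :=
      (S.le_Nz (S.U_le e) (((S.U_le_centralizer he he1).trans
        (centralizer_le inf_le_right)).trans (centralizer_le_normalizer _))).trans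
        (hM.norm _ (hY.inf_U he) hYe (inf_le_left.trans inf_le_left))
    by_cases hab : IsAb (S.P p ⊓ M)
    · refine hePD ((le_inf inf_le_left ?_).trans (S.bad_centralizer hb.nab hX))
      exact (inf_le_inf_left _ hUe).trans (hab.le_centralizer (inf_le_inf_left _ hKM))
    · exact hX.not_le (hKM.trans (S.le_Md_of_not_isAb hb.nab hM.inv hM.ne hab))
  · by_cases hNY : S.Nz Y ≤ S.Md s
    · have hKM : K ≤ S.Md s := (S.le_Nz hK.le hKY).trans hNY
      have hcb' : c ∈ zpowers b' := hb'.lines c hc hc1 (hUc.trans hKM)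
      have hbb' : b ∉ zpowers b' := fun h =>
        hcb ((zpowers_le.mpr (S.mem_zpowers_symm hb'.mem hb.ne_one h)) hcb')
      refine hZY ((S.part_le_centralizer_of_single hb' hb.mem hbb' hsp.symm hZ inf_le_left
        (hZK.trans hKM) hZU).trans (centralizer_le ?_))
      exact le_inf inf_le_left (inf_le_right.trans (commutator_mono hKM hKM))
    · exact hZY (hZK.trans ((S.le_Nz hK.le hKY).trans
        (S.bad_centralised hb' ⟨hY, hY0, inf_le_left, hNY⟩)))

end Single

theorem exists_max (hP : S.P p ≠ ⊥) : ∃ M, S.Max p M :=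
  (S.max_or_single hP).resolve_right fun ⟨_, hb⟩ => S.single_false hb

end Core

end Cfsg.Agent.AbelianFixed
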