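import Cfsg.Agent.Lib.AbelianFixed.Derived

/-!
A minimal counterexample: every proper invariant subgroup is solvable, none is normal, and `A`
fixes only `1`. Invariant Sylow subgroups are unique, proper invariant subgroups have nilpotent
derived groups.
-/

set_option autoImplicit false
set_option linter.unusedSectionVars false

namespace Cfsg.Agent.AbelianFixed

open Subgroup
open scoped Pointwise commutatorElement

universe u

variable {Γ : Type u} [Group Γ]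

/-- A minimal counterexample. -/
structure Core (Γ : Type u) [Group Γ] extends Ctx Γ where
  fixed : G ⊓ centralizer (A : Set Γ) = ⊥
  solv : ∀ K : Subgroup Γ, K ≤ G → A ≤ normalizer (K : Set Γ) → K ≠ G → Group.IsSolvable K
  simple : ∀ N : Subgroup Γ, N ≤ G → A ≤ normalizer (N : Set Γ) →
    G ≤ normalizer (N : Set Γ) → N = ⊥ ∨ N = G
  not_solvable : ¬ Group.IsSolvable G

theorem isPGroup_bot (p : ℕ) : IsPGroup p (⊥ : Subgroup Γ) :=
  fun x => ⟨0, by rw [pow_zero, pow_one]; exact Subtype.ext (mem_bot.mp x.2)⟩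

/-- A nontrivial subgroup normalised by a `p`-group containing it meets its centre. -/
theorem inf_centralizer_ne_bot [Finite Γ] {p : ℕ} [Fact p.Prime] {P X : Subgroup Γ}
    (hP : IsPGroup p P) (hXP : X ≤ P) (hn : P ≤ normalizer (X : Set Γ)) (hX : X ≠ ⊥) :
    X ⊓ centralizer (P : Set Γ) ≠ ⊥ := by
  have := hP.isNilpotent
  have hnormal : (X.subgroupOf P).Normal := (normal_subgroupOf_iff_le_normalizer hXP).mpr hn
  intro h
  refine Cores.inf_center_ne_bot (N := X.subgroupOf P) (fun h' => hX ?_) ?_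
  · rw [← map_subgroupOf_eq_of_le hXP, h', Subgroup.map_bot]
  · refine le_bot_iff.mp fun x hx => ?_
    have hm : (x : Γ) ∈ X ⊓ centralizer (P : Set Γ) :=
      ⟨hx.1, mem_centralizer_iff.mpr fun y hy =>
        congrArg Subtype.val (mem_center_iff.mp hx.2 ⟨y, hy⟩)⟩
    rw [h, mem_bot] at hm
    exact Subtype.ext hm

/-- Normalizers grow in `p`-groups. -/
theorem lt_inf_normalizer [Finite Γ] {p : ℕ} [Fact p.Prime] {P D : Subgroup Γ}
    (hP : IsPGroup p P) (hD : D < P) : D < P ⊓ normalizer (D : Set Γ) := by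
  have := hP.isNilpotent
  have hlt : D.subgroupOf P < ⊤ :=
    lt_top_iff_ne_top.mpr fun h => not_le_of_gt hD (subgroupOf_eq_top.mp h)
  have h := Group.normalizerCondition_of_isNilpotent _ hlt
  rw [← subgroupOf_normalizer_eq hD.le] at h
  refine lt_of_le_of_ne (le_inf hD.le le_normalizer) fun he => h.ne ?_
  conv_lhs => rw [he]
  rw [subgroupOf, subgroupOf, comap_inf, comap_subtype, subgroupOf_self, top_inf_eq]

namespace Core

variable (S : Core Γ)

/-- The normalizer in `G`. -/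
def Nz (X : Subgroup Γ) : Subgroup Γ := S.G ⊓ normalizer (X : Set Γ)

/-- The centralizer in `G`. -/
def Cz (X : Subgroup Γ) : Subgroup Γ := S.G ⊓ centralizer (X : Set Γ)

theorem inv_Nz {X : Subgroup Γ} (hX : S.Inv X) : S.Inv (S.Nz X) := Ctx.Inv.normalizer hX.norm

theorem inv_Cz {X : Subgroup Γ} (hX : S.Inv X) : S.Inv (S.Cz X) := Ctx.Inv.centralizer hX.norm

theorem Cz_le_Nz (X : Subgroup Γ) : S.Cz X ≤ S.Nz X :=
  inf_le_inf_left _ (centralizer_le_normalizer _)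

theorem G_ne_bot : S.G ≠ ⊥ := by
  intro h
  refine S.not_solvable ?_
  rw [h]
  exact Group.isSolvable_of_comm fun a b => Subsingleton.elim _ _

theorem perfect : ⁅S.G, S.G⁆ = S.G := by
  have h1 := S.inv_G.commutator S.inv_G
  refine (S.simple _ h1.le h1.norm fun g hg => normalizer_commutator
    ⟨le_normalizer hg, le_normalizer hg⟩).resolve_left fun h => S.not_solvable ?_
  exact Group.isSolvable_of_comm fun a b => Subtype.ext (by
    have hm := commutator_mem_commutator a.2 b.2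
    rw [h, mem_bot, commutatorElement_eq_one_iff_mul_comm] at hm
    exact hm)

theorem ne_of_le {H K : Subgroup Γ} (hK : S.Inv K) (hne : K ≠ S.G) (h : H ≤ K) : H ≠ S.G :=
  fun he => hne (le_antisymm hK.le (he ▸ h))

theorem Nz_ne {X : Subgroup Γ} (hX : S.Inv X) (h0 : X ≠ ⊥) (h1 : X ≠ S.G) : S.Nz X ≠ S.G :=
  fun h => (S.simple X hX.le hX.norm (inf_eq_left.mp h)).elim h0 h1

theorem Cz_ne {X : Subgroup Γ} (hX : S.Inv X) (h0 : X ≠ ⊥) (h1 : X ≠ S.G) : S.Cz X ≠ S.G :=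
  S.ne_of_le (S.inv_Nz hX) (S.Nz_ne hX h0 h1) (S.Cz_le_Nz X)

theorem le_Nz {H X : Subgroup Γ} (h1 : H ≤ S.G) (h2 : H ≤ normalizer (X : Set Γ)) :
    H ≤ S.Nz X := le_inf h1 h2

theorem le_Cz {H X : Subgroup Γ} (h1 : H ≤ S.G) (h2 : H ≤ centralizer (X : Set Γ)) :
    H ≤ S.Cz X := le_inf h1 h2

/-- Lines other than that of `b` meet the centraliser of `b` only in `1`. -/
theorem U_bot [Finite Γ] {b c : Γ} (hb : b ∈ S.A) (hb1 : b ≠ 1) (hc : c ∈ S.A)
    (hcb : c ∉ zpowers b) : S.U b ⊓ S.U c = ⊥ :=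
  S.U_inf_U_eq_bot S.fixed hb hb1 hc hcb

theorem inf_U_bot [Finite Γ] {b c : Γ} (hb : b ∈ S.A) (hb1 : b ≠ 1) (hc : c ∈ S.A)
    (hcb : c ∉ zpowers b) {H : Subgroup Γ} (hH : H ≤ S.U b) : H ⊓ S.U c = ⊥ :=
  le_bot_iff.mp (S.U_bot hb hb1 hc hcb ▸ inf_le_inf_right _ hH)

theorem inf_U_bot' [Finite Γ] {b c : Γ} (hb : b ∈ S.A) (hb1 : b ≠ 1) (hc : c ∈ S.A)
    (hcb : c ∉ zpowers b) {H : Subgroup Γ} (hH : H ≤ S.U c) : H ⊓ S.U b = ⊥ :=
  le_bot_iff.mp (S.U_bot hb hb1 hc hcb ▸ (inf_le_inf_right _ hH).trans_eq (inf_comm _ _))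

/-! ### Sylow subgroups -/

open Classical in
/-- The invariant Sylow `p`-subgroup. -/
noncomputable def P (p : ℕ) : Subgroup Γ :=
  if h : ∃ Q, S.Inv Q ∧ IsPGroup p Q ∧ Nat.card Q = p ^ (Nat.card S.G).factorization p then
    h.choose else ⊥

variable [Finite Γ] (p : ℕ) [Fact p.Prime]

theorem P_spec : S.Inv (S.P p) ∧ IsPGroup p (S.P p) ∧
    Nat.card (S.P p) = p ^ (Nat.card S.G).factorization p := by
  have hex : ∃ Q, S.Inv Q ∧ IsPGroup p Q ∧
      Nat.card Q = p ^ (Nat.card S.G).factorization p := by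
    obtain ⟨Q, hQ⟩ := Coprime.exists_invariant_sylow p S.hAG (S.coprime_A le_rfl)
      (Or.inl S.isSolvable_A)
    exact ⟨_, ⟨map_subtype_le _, hQ⟩, Q.2.map _,
      by rw [Subgroup.card_subtype, Q.card_eq_multiplicity]⟩
  rw [P, dif_pos hex]
  exact hex.choose_spec

theorem inv_P : S.Inv (S.P p) := (S.P_spec p).1

theorem isPGroup_P : IsPGroup p (S.P p) := (S.P_spec p).2.1

theorem card_P : Nat.card (S.P p) = p ^ (Nat.card S.G).factorization p := (S.P_spec p).2.2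

variable {p}

/-- The invariant Sylow subgroup contains every invariant `p`-subgroup. -/
theorem le_P {Q : Subgroup Γ} (hQ : S.Inv Q) (hp : IsPGroup p Q) : Q ≤ S.P p := by
  obtain ⟨R, hQR, hR⟩ := Coprime.exists_invariant_sylow_ge S.hAG (S.coprime_A le_rfl)
    (Or.inl S.isSolvable_A) hQ.le hp hQ.norm
  obtain ⟨k, hk, hkeq⟩ := Coprime.exists_conj_sylow_map (S.inv_P p).le R
    (by rw [S.card_P p, R.card_eq_multiplicity])
  obtain ⟨c, hc, hceq⟩ := Coprime.exists_centralizer_conj_eq S.hAG (S.coprime_A le_rfl)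
    (Or.inl S.isSolvable_A) hR (S.inv_P p).norm hk hkeq.symm
  rw [S.fixed, mem_bot] at hc
  rw [hc, Coprime.conj_smul_one] at hceq
  exact hceq ▸ hQR

theorem card_P_inf {K : Subgroup Γ} (hK : S.Inv K) :
    Nat.card ↥(S.P p ⊓ K) = p ^ (Nat.card K).factorization p := by
  obtain ⟨Q, hQ⟩ := Coprime.exists_invariant_sylow p hK.norm (S.coprime_A hK.le)
    (Or.inl S.isSolvable_A)
  have hle : (Q : Subgroup K).map K.subtype ≤ S.P p :=
    S.le_P ⟨(map_subtype_le _).trans hK.le, hQ⟩ (Q.2.map _)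
  refine le_antisymm ?_ ?_
  · obtain ⟨n, hn⟩ := IsPGroup.iff_card.mp ((S.isPGroup_P p).to_le (inf_le_left : S.P p ⊓ K ≤ _))
    rw [hn]
    refine Nat.pow_le_pow_right (Fact.out : p.Prime).pos ?_
    exact ((Fact.out : p.Prime).pow_dvd_iff_le_factorization Nat.card_pos.ne').mp
      (hn ▸ card_dvd_of_le (inf_le_right : S.P p ⊓ K ≤ K))
  · rw [← Q.card_eq_multiplicity, ← card_map_of_injective (K := (Q : Subgroup K)) K.subtype_injective]
    exact Subgroup.card_le_of_le (le_inf hle (map_subtype_le _))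

theorem exists_sylow {K : Subgroup Γ} (hK : S.Inv K) :
    ∃ Q : Sylow p K, (Q : Subgroup K).map K.subtype = S.P p ⊓ K := by
  refine ⟨Sylow.ofCard ((S.P p ⊓ K).subgroupOf K) ?_, ?_⟩
  · rw [Nat.card_congr (subgroupOfEquivOfLe (inf_le_right : S.P p ⊓ K ≤ K)).toEquiv,
      S.card_P_inf hK]
  · rw [Sylow.coe_ofCard, map_subgroupOf_eq_of_le inf_le_right]

theorem exists_sylow_G : ∃ Q : Sylow p S.G, (Q : Subgroup S.G).map S.G.subtype = S.P p := by
  obtain ⟨Q, hQ⟩ := S.exists_sylow (p := p) S.inv_G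
  exact ⟨Q, hQ.trans (inf_eq_left.mpr (S.inv_P p).le)⟩

variable (p) in
theorem P_ne_G : S.P p ≠ S.G := fun h => S.not_solvable
  (Coprime.isSolvable_of_isPGroup (h ▸ S.isPGroup_P p))

theorem ne_G_of_le_P {X : Subgroup Γ} (h : X ≤ S.P p) : X ≠ S.G :=
  S.ne_of_le (S.inv_P p) (S.P_ne_G p) h

theorem P_ne_bot (h : p ∣ Nat.card S.G) : S.P p ≠ ⊥ := by
  intro hb
  have h1 := S.card_P p
  rw [hb, Subgroup.card_bot] at h1
  have h2 := (Fact.out : p.Prime).factorization_pos_of_dvd Nat.card_pos.ne' h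
  exact absurd h1.symm (Nat.one_lt_pow h2.ne' (Fact.out : p.Prime).one_lt).ne'

/-- A `p`-group normalising `P` lies in it. -/
theorem le_P_of_le_normalizer {H : Subgroup Γ} (hHG : H ≤ S.G) (hH : IsPGroup p H)
    (hn : H ≤ normalizer (S.P p : Set Γ)) : H ≤ S.P p := by
  have hJ : IsPGroup p ↥(S.P p ⊔ H) :=
    IsPGroup.to_sup_of_normal_left' (S.isPGroup_P p) hH hn
  obtain ⟨n, hcard⟩ := IsPGroup.iff_card.mp hJ
  have hle : n ≤ (Nat.card S.G).factorization p :=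
    ((Fact.out : p.Prime).pow_dvd_iff_le_factorization Nat.card_pos.ne').mp
      (hcard ▸ card_dvd_of_le (sup_le (S.inv_P p).le hHG))
  have heq : S.P p = S.P p ⊔ H := eq_of_le_of_card_ge le_sup_left (by
    rw [hcard, S.card_P p]; exact Nat.pow_le_pow_right (Fact.out : p.Prime).pos hle)
  exact le_sup_right.trans heq.ge

/-- An invariant subgroup is determined by its invariant Sylow subgroups. -/
theorem le_of_parts {X L : Subgroup Γ} (hX : S.Inv X)
    (h : ∀ s : ℕ, s.Prime → S.P s ⊓ X ≤ L) : X ≤ L := by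
  refine inf_eq_left.mp (eq_of_le_of_card_ge inf_le_left
    (Nat.le_of_dvd Nat.card_pos ?_))
  rw [Nat.dvd_iff_prime_pow_dvd_dvd]
  intro s n hs hd
  have := Fact.mk hs
  refine dvd_trans ?_ (card_dvd_of_le (le_inf (inf_le_right : S.P s ⊓ X ≤ X) (h s hs)))
  rw [S.card_P_inf hX]
  exact pow_dvd_pow s ((hs.pow_dvd_iff_le_factorization Nat.card_pos.ne').mp hd)

theorem coprime_of_ne {s r : ℕ} [Fact s.Prime] [Fact r.Prime] (hsr : s ≠ r) {H K : Subgroup Γ}
    (hH : H ≤ S.P s) (hK : K ≤ S.P r) : (Nat.card H).Coprime (Nat.card K) :=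
  ((IsPGroup.coprime_card_of_ne s r hsr (S.P s) (S.P r) (S.isPGroup_P s)
    (S.isPGroup_P r)).coprime_dvd_left (card_dvd_of_le hH)).coprime_dvd_right (card_dvd_of_le hK)

theorem inf_eq_bot {s r : ℕ} [Fact s.Prime] [Fact r.Prime] (hsr : s ≠ r) {H K : Subgroup Γ}
    (hH : H ≤ S.P s) (hK : K ≤ S.P r) : H ⊓ K = ⊥ :=
  (Coprime.disjoint_of_coprime (S.coprime_of_ne hsr hH hK)).eq_bot

theorem isSolvable_of_le_P {H : Subgroup Γ} (hH : H ≤ S.P p) : Group.IsSolvable H :=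
  Coprime.isSolvable_of_isPGroup ((S.isPGroup_P p).to_le hH)

/-! ### Proper invariant subgroups -/

variable {K : Subgroup Γ}

theorem inv_der (hK : S.Inv K) : S.Inv ⁅K, K⁆ := hK.commutator hK

theorem der_le (K : Subgroup Γ) : ⁅K, K⁆ ≤ K :=
  Coprime.commutator_le_of_le_normalizer le_normalizer

theorem le_normalizer_der (K : Subgroup Γ) : K ≤ normalizer ((⁅K, K⁆ : Subgroup Γ) : Set Γ) :=
  fun _ hg => normalizer_commutator ⟨le_normalizer hg, le_normalizer hg⟩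

theorem der_isNilpotent (hK : S.Inv K) (hne : K ≠ S.G) : Group.IsNilpotent ↥(⁅K, K⁆) :=
  isNilpotent_commutator _ (S.restrict hK) le_rfl (S.restrict_fixed hK S.fixed)
    (S.solv K hK.le hK.norm hne)

/-- `K` normalises the parts of its derived group. -/
theorem le_normalizer_part (hK : S.Inv K) (hne : K ≠ S.G) :
    K ≤ normalizer ((S.P p ⊓ ⁅K, K⁆ : Subgroup Γ) : Set Γ) := by
  have := S.der_isNilpotent hK hne
  obtain ⟨Q, hQ⟩ := S.exists_sylow (p := p) (S.inv_der hK)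
  have hQn : (Q : Subgroup ↥(⁅K, K⁆)).Normal :=
    Sylow.normal_of_normalizerCondition Group.normalizerCondition_of_isNilpotent Q
  have : Subsingleton (Sylow p ↥(⁅K, K⁆)) := by
    have := Sylow.unique_of_normal Q hQn
    infer_instance
  intro g hg
  refine mem_normalizer_of_conj_mem fun x hx => ?_
  have hm : g * x * g⁻¹ ∈ ⁅K, K⁆ := conj_mem_of_mem_normalizer (le_normalizer_der K hg) hx.2
  obtain ⟨k, hk⟩ := S.isPGroup_P p ⟨x, hx.1⟩
  have hk' : x ^ p ^ k = 1 := congrArg Subtype.val hk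
  have hp : IsPGroup p (zpowers (⟨g * x * g⁻¹, hm⟩ : ↥(⁅K, K⁆))) := by
    obtain ⟨i, _, hi⟩ := (Nat.dvd_prime_pow (Fact.out : p.Prime)).mp
      (orderOf_dvd_of_pow_eq_one (x := (⟨g * x * g⁻¹, hm⟩ : ↥(⁅K, K⁆))) (n := p ^ k)
        (Subtype.ext (by
          show (g * x * g⁻¹) ^ p ^ k = 1
          rw [conj_pow, hk', mul_one, mul_inv_cancel])))
    exact IsPGroup.of_card (n := i) (by rw [Nat.card_zpowers, hi])
  obtain ⟨R, hR⟩ := hp.exists_le_sylow
  have hmem : (⟨g * x * g⁻¹, hm⟩ : ↥(⁅K, K⁆)) ∈ (Q : Subgroup ↥(⁅K, K⁆)) := by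
    rw [← Subsingleton.elim R Q]; exact hR (mem_zpowers _)
  rw [← hQ]
  exact ⟨_, hmem, rfl⟩

/-- Different parts of the derived group commute. -/
theorem part_le_centralizer {s r : ℕ} [Fact s.Prime] [Fact r.Prime] (hsr : s ≠ r)
    (hK : S.Inv K) (hne : K ≠ S.G) :
    S.P s ⊓ ⁅K, K⁆ ≤ centralizer ((S.P r ⊓ ⁅K, K⁆ : Subgroup Γ) : Set Γ) := by
  have := S.der_isNilpotent hK hne
  intro x hx
  rw [mem_centralizer_iff]
  intro y hy
  have hc := S3939.commute_of_coprime_orders (x := (⟨y, hy.2⟩ : ↥(⁅K, K⁆)))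
    (y := ⟨x, hx.2⟩) (by
      rw [orderOf_mk, orderOf_mk]
      refine ((S.coprime_of_ne hsr.symm (le_refl (S.P r)) (le_refl (S.P s))).coprime_dvd_left
        ?_).coprime_dvd_right ?_
      · exact Subgroup.orderOf_mk y hy.1 ▸ orderOf_dvd_natCard (⟨y, hy.1⟩ : S.P r)
      · exact Subgroup.orderOf_mk x hx.1 ▸ orderOf_dvd_natCard (⟨x, hx.1⟩ : S.P s))
  exact congrArg Subtype.val hc.eq

/-- `K = (K ⊓ N(P ⊓ K)) K'`, in the form needed below. -/
theorem le_of_normalizer_of_parts (hK : S.Inv K) {L : Subgroup Γ}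
    (hN : K ⊓ normalizer ((S.P p ⊓ K : Subgroup Γ) : Set Γ) ≤ L)
    (hY : ∀ s : ℕ, s.Prime → s ≠ p → S.P s ⊓ ⁅K, K⁆ ≤ L) : K ≤ L := by
  have hDL : S.P p ⊓ K ≤ L := (le_inf inf_le_right le_normalizer).trans hN
  have hder : ⁅K, K⁆ ≤ L := S.le_of_parts (S.inv_der hK) fun s hs => by
    by_cases h : s = p
    · subst h; exact (inf_le_inf_left _ (der_le K)).trans hDL
    · exact hY s hs h
  let J := ⁅K, K⁆ ⊔ (S.P p ⊓ K)
  have hJK : J ≤ K := sup_le (der_le K) inf_le_right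
  have hJ : S.Inv J := (S.inv_der hK).sup ((S.inv_P p).inf hK.norm)
  intro k hk
  have hle : MulAut.conj k • (S.P p ⊓ K) ≤ J := by
    intro z hz
    rw [Coprime.mem_conj_smul] at hz
    have hc : ⁅k, k⁻¹ * z * k⁆ ∈ ⁅K, K⁆ := commutator_mem_commutator hk hz.2
    have e : z = ⁅k, k⁻¹ * z * k⁆ * (k⁻¹ * z * k) := by rw [commutatorElement_def]; group
    rw [e]
    exact mul_mem_sup hc hz
  have hPJ : S.P p ⊓ J = S.P p ⊓ K :=
    le_antisymm (inf_le_inf_left _ hJK) (le_inf inf_le_left le_sup_right)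
  obtain ⟨Q, hQ⟩ := S.exists_sylow (p := p) hJ
  rw [hPJ] at hQ
  obtain ⟨l, hl, hleq⟩ := Coprime.exists_conj_sylow_map hle Q (by
    rw [Coprime.card_conj_smul, ← hQ, Subgroup.card_subtype])
  rw [hQ] at hleq
  have hlk : l⁻¹ * k ∈ normalizer ((S.P p ⊓ K : Subgroup Γ) : Set Γ) := by
    rw [← Coprime.conj_smul_eq_self_iff, Coprime.conj_smul_mul, hleq, Coprime.conj_inv_smul_smul]
  have h1 : l⁻¹ * k ∈ L := hN ⟨K.mul_mem (K.inv_mem (hJK hl)) hk, hlk⟩
  simpa using mul_mem ((sup_le hder hDL : J ≤ L) hl) h1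

end Core

end Cfsg.Agent.AbelianFixed
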